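import Mathlib
import Groth.Prelude.Def_GrLC
import Groth.Agent.GrSegreLib.Homog

/-! Nonnegatively graded Noetherian rings whose degree-zero part is a field. -/

set_option autoImplicit false
set_option linter.style.haveILetI false
set_option linter.unusedSectionVars false
universe u

open DirectSum

namespace Groth.Agent.GrFieldLib

variable {R : Type u} [CommRing R] (𝒜 : ℤ → AddSubgroup R) [GradedRing 𝒜]

/-- The pieces as modules over the degree-zero subring. -/
def compPieces (n : ℤ) : Submodule (GrLC.deg0 𝒜) R := GrLC.comp 𝒜 𝒜 n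

theorem mem_compPieces {n : ℤ} {x : R} : x ∈ compPieces 𝒜 n ↔ x ∈ 𝒜 n := Iff.rfl

instance compPieces_monoid : SetLike.GradedMonoid (compPieces 𝒜) where
  one_mem := SetLike.GradedOne.one_mem (A := 𝒜)
  mul_mem _ _ _ _ hx hy := SetLike.GradedMul.mul_mem (A := 𝒜) hx hy

theorem compPieces_isInternal : DirectSum.IsInternal (compPieces 𝒜) :=
  (DirectSum.Decomposition.isInternal 𝒜 : DirectSum.IsInternal 𝒜)

noncomputable instance compPieces_graded : GradedAlgebra (compPieces 𝒜) :=
  { compPieces_monoid 𝒜, (compPieces_isInternal 𝒜).chooseDecomposition with }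

variable (hpos : ∀ n : ℤ, n < 0 → 𝒜 n = ⊥) (h0 : IsField (GrLC.deg0 𝒜))

include hpos in
theorem comp_pos (n : ℤ) (hn : n < 0) : compPieces 𝒜 n = ⊥ :=
  (Submodule.eq_bot_iff _).2 fun x hx => by
    have : x ∈ (⊥ : AddSubgroup R) := hpos n hn ▸ hx
    exact this

theorem comp_zero : compPieces 𝒜 0 = Submodule.span (GrLC.deg0 𝒜) {(1 : R)} := by
  ext x
  rw [Submodule.mem_span_singleton]
  refine ⟨fun hx => ⟨⟨x, hx⟩, mul_one x⟩, ?_⟩
  rintro ⟨c, rfl⟩
  rw [show c • (1 : R) = (c : R) from mul_one _]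
  exact c.2

/-- The irrelevant ideal. -/
abbrev irr : Ideal R := Ideal.span (⋃ n ∈ Set.Ioi (0 : ℤ), (𝒜 n : Set R))

include hpos in
/-- A Noetherian nonnegatively graded ring is of finite type over its degree-zero part. -/
theorem finiteType [IsNoetherianRing R] : Algebra.FiniteType (GrLC.deg0 𝒜) R := by
  classical
  obtain ⟨s, hs⟩ := Submodule.fg_span_iff_fg_span_finset_subset
    (⋃ n ∈ Set.Ioi (0 : ℤ), (𝒜 n : Set R)) |>.1 (IsNoetherian.noetherian (irr 𝒜))
  refine ⟨⟨s, ?_⟩⟩
  suffices key : ∀ n : ℕ, ∀ x ∈ 𝒜 (n : ℤ), x ∈ Algebra.adjoin (GrLC.deg0 𝒜) (s : Set R) by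
    rw [eq_top_iff]
    intro x _
    rw [← DirectSum.sum_support_decompose 𝒜 x]
    refine Subalgebra.sum_mem _ fun n _ => ?_
    rcases lt_or_ge n 0 with h | h
    · have hm : (decompose 𝒜 x n : R) ∈ (⊥ : AddSubgroup R) := hpos n h ▸ (decompose 𝒜 x n).2
      rw [AddSubgroup.mem_bot] at hm
      rw [hm]
      exact zero_mem _
    · exact key n.toNat _ (by rw [Int.toNat_of_nonneg h]; exact (decompose 𝒜 x n).2)
  intro n
  induction n using Nat.strong_induction_on with
  | _ n ih =>
    intro x hx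
    rcases Nat.eq_zero_or_pos n with rfl | hn
    · exact Subalgebra.algebraMap_mem (Algebra.adjoin (GrLC.deg0 𝒜) (s : Set R)) ⟨x, hx⟩
    have hxI : x ∈ irr 𝒜 :=
      Ideal.subset_span (Set.mem_biUnion (x := (n : ℤ)) (by simpa using hn) hx)
    rw [show irr 𝒜 = Submodule.span R (⋃ n ∈ Set.Ioi (0 : ℤ), (𝒜 n : Set R)) from rfl, hs.2] at hxI
    suffices h : ∀ y ∈ Ideal.span (s : Set R), ∀ c : R,
        (decompose 𝒜 (c * y) (n : ℤ) : R) ∈ Algebra.adjoin (GrLC.deg0 𝒜) (s : Set R) by
      have := h x hxI 1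
      rwa [one_mul, decompose_of_mem_same 𝒜 hx] at this
    intro y hy
    induction hy using Submodule.span_induction with
    | mem z hz =>
      intro c
      obtain ⟨b, hb, hzb⟩ := Set.mem_iUnion₂.1 (hs.1 hz)
      have h1 := coe_decompose_mul_add_of_right_mem 𝒜 (a := c) (i := (n : ℤ) - b) hzb
      rw [sub_add_cancel] at h1
      rw [h1]
      refine mul_mem ?_ (Algebra.subset_adjoin hz)
      rcases lt_or_ge ((n : ℤ) - b) 0 with h | h
      · have hm : (decompose 𝒜 c ((n : ℤ) - b) : R) ∈ (⊥ : AddSubgroup R) :=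
          hpos _ h ▸ (decompose 𝒜 c _).2
        rw [AddSubgroup.mem_bot] at hm
        rw [hm]
        exact zero_mem _
      · exact ih ((n : ℤ) - b).toNat (by have := Set.mem_Ioi.1 hb; omega) _
          (by rw [Int.toNat_of_nonneg h]; exact (decompose 𝒜 c _).2)
    | zero => intro c; simp
    | add a b _ _ ha hb =>
      intro c
      rw [mul_add, decompose_add, DirectSum.add_apply, AddSubgroup.coe_add]
      exact add_mem (ha c) (hb c)
    | smul r a _ ha => intro c; rw [smul_eq_mul, ← mul_assoc]; exact ha _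

include h0 in
theorem nontrivial_of_isField : Nontrivial R :=
  haveI : Nontrivial (GrLC.deg0 𝒜) := ⟨h0.exists_pair_ne⟩
  (Subtype.val_injective : Function.Injective ((↑) : GrLC.deg0 𝒜 → R)).nontrivial

include hpos h0 in
theorem irr_isMaximal : (irr 𝒜).IsMaximal := by
  letI := h0.toField
  haveI := nontrivial_of_isField 𝒜 h0
  exact GrSegreLib.irr_isMaximal (compPieces 𝒜) (comp_pos 𝒜 hpos) (comp_zero 𝒜)

include hpos h0 in
/-- The irrelevant ideal has height the dimension. -/
theorem height_irr [IsNoetherianRing R] :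
    ((irr 𝒜).height : WithBot ℕ∞) = ringKrullDim R := by
  letI := h0.toField
  haveI := nontrivial_of_isField 𝒜 h0
  haveI := finiteType 𝒜 hpos
  haveI := irr_isMaximal 𝒜 hpos h0
  refine le_antisymm Ideal.height_le_ringKrullDim_of_isPrime ?_
  rw [ringKrullDim, Order.krullDim]
  refine iSup_le fun c => ?_
  obtain ⟨p, hp, hpc⟩ := Ideal.exists_minimalPrimes_le (I := (⊥ : Ideal R)) (bot_le (a := c.head.asIdeal))
  haveI := hp.1.1
  have hph : p.IsHomogeneous (compPieces 𝒜) :=
    GrSegreLib.minimalPrimes_homogeneous (compPieces 𝒜) (Ideal.IsHomogeneous.bot _) hp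
  obtain ⟨c', -, hc2, hlen⟩ :=
    GrSegreLib.exists_chain_to_irr (compPieces 𝒜) (comp_pos 𝒜 hpos) (comp_zero 𝒜) p hph
  have h1 : (c.length : WithBot ℕ∞) ≤ ringKrullDim (R ⧸ p) := by
    rw [ringKrullDim_quotient]
    let c₀ : LTSeries (PrimeSpectrum.zeroLocus (p : Set R)) :=
      { length := c.length
        toFun := fun i => ⟨c i, hpc.trans ((PrimeSpectrum.asIdeal_le_asIdeal _ _).2 (c.head_le i))⟩
        step := fun i => c.step i }
    exact Order.LTSeries.length_le_krullDim c₀
  refine le_trans (h1.trans hlen) ?_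
  let m : PrimeSpectrum R := ⟨irr 𝒜, Ideal.IsMaximal.isPrime inferInstance⟩
  have hm : c'.last ≤ m := (PrimeSpectrum.ext hc2).le
  rw [show (irr 𝒜).height = Order.height m from PrimeSpectrum.height_eq_orderHeight m]
  exact WithBot.coe_le_coe.2 (Order.length_le_height (x := m) hm)

end Groth.Agent.GrFieldLib
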