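import Mathlib
import Groth.Agent.GrFieldLib.Basic
import Groth.Agent.LocCohLib.BaseChange
import Groth.Agent.LocCohLib.Depth
import Groth.Agent.LocCohLib.CMSop
import Groth.Agent.LocCohLib.Vanishing
import Groth.Agent.LocCohLib.MaxIdeal

/-! Vanishing of local cohomology below the dimension of a graded Cohen–Macaulay ring. -/

set_option autoImplicit false
set_option linter.style.haveILetI false
universe u

open CategoryTheory TensorProduct RingTheory.Sequence

namespace Groth.Agent.GrFieldLib

/-- Vanishing below the height at a maximal ideal with Cohen–Macaulay localization. -/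
theorem subsingleton_H_of_lt_height {R : Type u} [CommRing R] [IsNoetherianRing R] (P : Ideal R)
    [P.IsMaximal] [LocCoh.IsCohenMacaulayLocalRing (Localization.AtPrime P)] {n : ℕ}
    (hn : P.height = n) (i : ℕ) (hi : i < n) :
    Subsingleton ((localCohomology P i).obj (ModuleCat.of R R) : Type u) := by
  let B := Localization.AtPrime P
  haveI : Module.Flat R B := IsLocalization.flat _ P.primeCompl
  obtain ⟨e⟩ := LocCohLib.exists_baseChange B P R i
  have hdim : ringKrullDim B = n := by
    rw [IsLocalization.AtPrime.ringKrullDim_eq_height P B, hn]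
    rfl
  obtain ⟨b, -, hb⟩ := LocCohLib.exists_radical_generators (R := B) n hdim.le
    (IsLocalRing.maximalIdeal B) (IsLocalRing.maximalIdeal.isMaximal B).ne_top
  rw [Ideal.IsPrime.radical inferInstance] at hb
  have hreg := LocCohLib.isWeaklyRegular_of_sop hdim hb.symm
  have hbm : ∀ r ∈ List.ofFn b, r ∈ P.map (algebraMap R B) := fun r hr => by
    obtain ⟨j, rfl⟩ := List.mem_ofFn.1 hr
    rw [Localization.AtPrime.map_eq_maximalIdeal, hb]
    exact Ideal.le_radical (Ideal.subset_span ⟨j, rfl⟩)
  haveI := LocCohLib.subsingleton_of_isWeaklyRegular (P.map (algebraMap R B)) (ModuleCat.of B B)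
    (List.ofFn b) hreg hbm i (by simpa using hi)
  let u : ModuleCat.of B (B ⊗[R] R) ≅ ModuleCat.of B B :=
    (TensorProduct.AlgebraTensorModule.rid R B B).toModuleIso
  haveI : Subsingleton ((localCohomology (P.map (algebraMap R B)) i).obj
      (ModuleCat.of B (B ⊗[R] R)) : Type u) :=
    ((localCohomology (P.map (algebraMap R B)) i).mapIso u).toLinearEquiv.toEquiv.subsingleton
  haveI : Subsingleton (B ⊗[R] ((localCohomology P i).obj (ModuleCat.of R R) : Type u)) :=
    e.toEquiv.subsingleton
  refine ⟨fun x y => ?_⟩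
  suffices h : ∀ z : ((localCohomology P i).obj (ModuleCat.of R R) : Type u), z = 0 by
    rw [h x, h y]
  intro z
  obtain ⟨k, hk⟩ := LocCohLib.isPowerTorsion_H P i (ModuleCat.of R R) z
  have h1 : LocalizedModule.mkLinearMap P.primeCompl _ z = 0 :=
    (LocalizedModule.equivTensorProduct P.primeCompl
      ((localCohomology P i).obj (ModuleCat.of R R) : Type u)).injective (Subsingleton.elim _ _)
  obtain ⟨s, hs⟩ := (IsLocalizedModule.eq_zero_iff P.primeCompl
    (LocalizedModule.mkLinearMap P.primeCompl _)).1 h1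
  have hcop : P ^ k ⊔ Ideal.span {(s : R)} = ⊤ := by
    refine Ideal.pow_sup_eq_top (eq_top_iff.2 ?_)
    rw [← (Ideal.IsMaximal.out (self := ‹P.IsMaximal›)).2 (P ⊔ Ideal.span {(s : R)})
      (lt_of_le_of_ne le_sup_left fun he => s.2
        (he.ge (Submodule.mem_sup_right (Ideal.mem_span_singleton_self (s : R)))))]
  obtain ⟨a, ha, c, hc, hac⟩ := Submodule.mem_sup.1 (hcop.ge (Submodule.mem_top (x := (1 : R))))
  obtain ⟨c', rfl⟩ := Ideal.mem_span_singleton'.1 hc
  rw [← one_smul R z, ← hac, add_smul, hk a ha, mul_smul]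
  show 0 + c' • (s : R) • z = 0
  rw [show (s : R) • z = 0 from hs, smul_zero, add_zero]

variable {R : Type u} [CommRing R] (𝒜 : ℤ → AddSubgroup R) [GradedRing 𝒜]
  (hpos : ∀ n : ℤ, n < 0 → 𝒜 n = ⊥) (h0 : IsField (GrLC.deg0 𝒜))

include hpos h0 in
/-- `Hⁱ_m(R) = 0` for `i < dim R` when `R` is Cohen–Macaulay. -/
theorem subsingleton_H_of_lt_dim [LocCoh.IsCohenMacaulayRing R] {n : ℕ} (hn : ringKrullDim R = n)
    (i : ℕ) (hi : i < n) :
    Subsingleton ((localCohomology (irr 𝒜) i).obj (ModuleCat.of R R) : Type u) := by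
  haveI := irr_isMaximal 𝒜 hpos h0
  haveI := LocCoh.IsCohenMacaulayRing.isCohenMacaulayLocalRing_localization (irr 𝒜)
  refine subsingleton_H_of_lt_height (irr 𝒜) ?_ i hi
  have := (height_irr 𝒜 hpos h0).trans hn
  exact_mod_cast this

end Groth.Agent.GrFieldLib
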