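import Mathlib
import Groth.Agent.GrFieldLib.CM
import Groth.Agent.GrRegLib.Free

/-! Top and below-top local cohomology of positively graded rings over a field. -/

set_option autoImplicit false
set_option linter.style.haveILetI false
set_option linter.unusedSectionVars false
universe u

set_option linter.overlappingInstances false
open DirectSum RingTheory.Sequence GrInjLib
open scoped Pointwise

namespace Groth.Agent.GrFieldLib

variable {R : Type u} [CommRing R] [IsNoetherianRing R] {𝒜 : ℤ → AddSubgroup R} [GradedRing 𝒜]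
  {m : HomogeneousIdeal 𝒜}

/-- Vanishing above the dimension. -/
theorem van_above_dim {r : ℕ} (hr : ringKrullDim R = r) (X : GrLC.GMod.{u} 𝒜) (i : ℕ) (hi : r < i)
    (g : ℤ) : Van m X i g := fun E => by
  obtain ⟨e⟩ := exists_H_equiv_locCoh E m i
  haveI : Subsingleton ((localCohomology m.toIdeal i).obj (ModuleCat.of R X.carrier) : Type u) :=
    LocCohLib.cdLE_of_ringKrullDim m.toIdeal r hr.le X.carrier i hi
  haveI : Subsingleton (E.H m i) := e.toEquiv.subsingleton
  exact (Submodule.eq_bot_iff _).2 fun y _ => Subsingleton.elim y 0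

/-- Vanishing below the dimension of a Cohen–Macaulay ring. -/
theorem van_below_dim [LocCoh.IsCohenMacaulayRing R] (hpos : ∀ n : ℤ, n < 0 → 𝒜 n = ⊥)
    (h0 : IsField (GrLC.deg0 𝒜)) (hmsp : m.toIdeal = irr 𝒜) {n : ℕ} (hn : ringKrullDim R = n)
    (i : ℕ) (hi : i < n) (g : ℤ) : Van m (ringG (𝒜 := 𝒜)) i g := fun E => by
  obtain ⟨e⟩ := exists_H_equiv_locCoh E m i
  haveI : Subsingleton ((localCohomology m.toIdeal i).obj
      (ModuleCat.of R (ringG (𝒜 := 𝒜)).carrier) : Type u) := by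
    show Subsingleton ((localCohomology m.toIdeal i).obj (ModuleCat.of R R) : Type u)
    rw [hmsp]
    exact subsingleton_H_of_lt_dim 𝒜 hpos h0 hn i hi
  haveI : Subsingleton (E.H m i) := e.toEquiv.subsingleton
  exact (Submodule.eq_bot_iff _).2 fun y _ => Subsingleton.elim y 0

/-- For a standard graded ring the nonzero pieces of the top local cohomology form a ray. -/
theorem van_top_succ (hhom : m.toIdeal = Ideal.span ((𝒜 1 : AddSubgroup R) : Set R))
    {r : ℕ} (hr : ringKrullDim R = r) (h1 : 1 ≤ r) {g : ℤ}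
    (hg : Van m (ringG (𝒜 := 𝒜)) r g) : Van m (ringG (𝒜 := 𝒜)) r (g + 1) := by
  classical
  obtain ⟨S, hS, hspan⟩ := exists_linear_generators hhom
  let s : Fin S.card → R := fun j => (S.equivFin.symm j : R)
  have hs : ∀ j, s j ∈ 𝒜 (1 : ℤ) := fun j => hS _ (S.equivFin.symm j).2
  let e : Fin S.card → ℤ := fun _ => 1
  let π : (freeG (𝒜 := 𝒜) e).carrier →ₗ[R] (ringG (𝒜 := 𝒜)).carrier := Fintype.linearCombination R s
  have hπv : ∀ v : (freeG (𝒜 := 𝒜) e).carrier, π v = ∑ j, v j * s j := fun v =>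
    (Fintype.linearCombination_apply R s v).trans (by simp [smul_eq_mul])
  have hπg : GrLC.IsGrHom (freeG (𝒜 := 𝒜) e).gr (ringG (𝒜 := 𝒜)).gr π := fun b v hv => by
    rw [hπv]
    refine sum_mem fun j _ => ?_
    show v j * s j ∈ 𝒜 b
    have := SetLike.GradedMul.mul_mem (A := 𝒜) (hv j) (hs j)
    rwa [sub_add_cancel] at this
  have hK : (LinearMap.ker π).IsHomogeneous (freeG (𝒜 := 𝒜) e).gr :=
    ker_homogeneous (freeG (𝒜 := 𝒜) e).gr (ringG (𝒜 := 𝒜)).gr ((isGrHom_iff _ _).1 hπg)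
  have hI : (LinearMap.range π).IsHomogeneous (ringG (𝒜 := 𝒜)).gr :=
    range_homogeneous (freeG (𝒜 := 𝒜) e).gr (ringG (𝒜 := 𝒜)).gr ((isGrHom_iff _ _).1 hπg)
  have hrange : ∀ x : R, x ∈ LinearMap.range π ↔ x ∈ m.toIdeal := fun x => by
    rw [hspan, show (S : Set R) = Set.range s from ?_]
    · exact ⟨fun ⟨v, hv⟩ => hv ▸ (hπv v).symm ▸ Ideal.mem_span_range_iff_exists_fun.2 ⟨v, rfl⟩,
        fun hx => by
          obtain ⟨c, rfl⟩ := Ideal.mem_span_range_iff_exists_fun.1 hx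
          exact ⟨c, hπv c⟩⟩
    · ext y
      exact ⟨fun hy => ⟨S.equivFin ⟨y, hy⟩, by simp [s]⟩, fun ⟨j, hj⟩ => hj ▸ (S.equivFin.symm j).2⟩
  let K := subG 𝒜 (freeG (𝒜 := 𝒜) e).gr hK
  let I := subG 𝒜 (ringG (𝒜 := 𝒜)).gr hI
  let Q := quotG 𝒜 (ringG (𝒜 := 𝒜)).gr hI
  let π' : (freeG (𝒜 := 𝒜) e).carrier →ₗ[R] I.carrier := π.rangeRestrict
  have hI' : Van m I r (g + 1) := by
    refine van_right (A := K) (B := freeG (𝒜 := 𝒜) e) (C := I)
      (f := subIncl 𝒜 (freeG (𝒜 := 𝒜) e).gr hK) (g := π')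
      ((isGrHom_iff _ _).1 (subIncl_grHom 𝒜 (freeG (𝒜 := 𝒜) e).gr hK)) (fun b v hv => hπg b v hv)
      (subIncl_injective 𝒜 (freeG (𝒜 := 𝒜) e).gr hK) (fun b => ?_) π.surjective_rangeRestrict
      (add_zero (g + 1)) (van_free e fun _ => ?_) (van_above_dim hr K (r + 1) (by omega) _)
    · rw [← LinearMap.mem_range, range_subIncl, LinearMap.mem_ker]
      exact ⟨fun h => congrArg Subtype.val h, fun h => Subtype.ext h⟩
    · show Van m _ r (g + 1 - 1)
      rwa [add_sub_cancel_right]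
  have hQ : Van m Q r (g + 1) := by
    obtain ⟨r', rfl⟩ := Nat.exists_eq_add_of_le' h1
    refine van_of_torsion (eq_top_iff.2 fun y _ => ?_) r' _
    obtain ⟨x, rfl⟩ := quotMk_surjective 𝒜 (ringG (𝒜 := 𝒜)).gr hI y
    refine ⟨1, fun t ht => ?_⟩
    rw [← map_smul]
    refine LinearMap.mem_ker.1 ((ker_quotMk 𝒜 (ringG (𝒜 := 𝒜)).gr hI).ge ((hrange _).2 ?_))
    exact Ideal.mul_mem_right _ _ (by simpa using ht)
  refine van_middle (A := I) (B := ringG (𝒜 := 𝒜)) (C := Q)
    ((isGrHom_iff _ _).1 (subIncl_grHom 𝒜 (ringG (𝒜 := 𝒜)).gr hI))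
    (quotMk_grHom 𝒜 (ringG (𝒜 := 𝒜)).gr hI) (subIncl_injective 𝒜 (ringG (𝒜 := 𝒜)).gr hI)
    (fun b => by rw [← LinearMap.mem_ker, ker_quotMk, ← LinearMap.mem_range, range_subIncl])
    (quotMk_surjective 𝒜 (ringG (𝒜 := 𝒜)).gr hI) (add_zero (g + 1)) hI' hQ

end Groth.Agent.GrFieldLib

namespace Groth.Agent.GrFieldLib

variable {R : Type u} [CommRing R] [IsNoetherianRing R] {σ : Type u} [SetLike σ R]
  [AddSubgroupClass σ R] {𝒜 : ℤ → σ} [GradedRing 𝒜] {m : HomogeneousIdeal 𝒜}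

section Seq

variable {M N : GrLC.GMod.{u} 𝒜}

/-- Vanishing passes along a bijection of graded modules. -/
theorem van_congr (f : M.carrier →ₗ[R] N.carrier) (hf : GrLC.IsGrHom M.gr N.gr f)
    (hbij : Function.Bijective f) {i : ℕ} {g : ℤ} (hA : Van m M i g) : Van m N i g := by
  have hR := range_homogeneous M.gr N.gr ((isGrHom_iff _ _).1 hf)
  refine van_middle ((isGrHom_iff _ _).1 hf) (quotMk_grHom 𝒜 N.gr hR) hbij.1
    (fun b => by rw [← LinearMap.mem_ker, ker_quotMk]; exact LinearMap.mem_range)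
    (quotMk_surjective 𝒜 N.gr hR) (add_zero g) hA (van_of_subsingleton (fun y => ?_) i g)
  obtain ⟨b, rfl⟩ := quotMk_surjective 𝒜 N.gr hR y
  exact LinearMap.mem_ker.1 ((ker_quotMk 𝒜 N.gr hR).ge (hbij.2 b))

variable {x : R} {D : ℤ} (hx : x ∈ 𝒜 D) (hreg : IsSMulRegular M.carrier x)
  {π : M.carrier →ₗ[R] N.carrier} (hπ : Function.Surjective π) (hπg : GrLC.IsGrHom M.gr N.gr π)
  (hker : LinearMap.ker π = LinearMap.range (x • (LinearMap.id : M.carrier →ₗ[R] M.carrier)))

include hx hreg hπ hπg hker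

/-- Dividing by a regular element lowers the vanishing range by one. -/
theorem van_quot_below {n : ℕ} (hM : ∀ i, i < n + 1 → ∀ g, Van m M i g) (i : ℕ) (hi : i < n)
    (g : ℤ) : Van m N i g := by
  have hf : GrLC.IsGrHomDeg M.gr M.gr (x • (LinearMap.id : M.carrier →ₗ[R] M.carrier)) D := fun b z hz => by
    show x • z ∈ M.gr (b + D)
    rw [add_comm]
    exact smul_mem 𝒜 M.gr hx hz
  exact van_right hf hπg hreg (fun b => by rw [← LinearMap.mem_ker, hker]; exact LinearMap.mem_range)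
    hπ (sub_add_cancel g D) (hM i (by omega) g) (hM (i + 1) (by omega) _)

/-- The end of the first nonvanishing local cohomology moves up by the degree. -/
theorem van_quot_end (hD : 0 < D)
    (ha : m.toIdeal = Ideal.span (⋃ n ∈ Set.Ioi (0 : ℤ), (𝒜 n : Set R))) [Module.Finite R M.carrier]
    (hpos : ∀ n : ℤ, n < 0 → ∀ x ∈ 𝒜 n, x = 0) {n : ℕ} (hM : ∀ i, i < n + 1 → ∀ g, Van m M i g) (d : ℤ) :
    (∀ g, d < g → Van m N n g) ↔ (∀ g, d - D < g → Van m M (n + 1) g) := by
  have hf : GrLC.IsGrHomDeg M.gr M.gr (x • (LinearMap.id : M.carrier →ₗ[R] M.carrier)) D := fun b z hz => by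
    show x • z ∈ M.gr (b + D)
    rw [add_comm]
    exact smul_mem 𝒜 M.gr hx hz
  have hex : ∀ b, π b = 0 ↔ ∃ z, (x • LinearMap.id : M.carrier →ₗ[R] M.carrier) z = b := fun b => by
    rw [← LinearMap.mem_ker, hker]; exact LinearMap.mem_range
  constructor
  · intro hN
    obtain ⟨E⟩ := exists_starInjRes 𝒜 M.gr
    obtain ⟨r, hr⟩ := (pieces_finite_vanish hpos m ha (n + 1) M E).2
    suffices key : ∀ (k : ℕ) (g : ℤ), r ≤ g + k → d - D < g → Van m M (n + 1) g from
      fun g hg => key (r - g).toNat g (by omega) hg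
    intro k
    induction k with
    | zero => exact fun g hg _ => Van.of_res E (hr g (by simpa using hg))
    | succ k ih =>
      intro g hg hd
      exact van_left hf hπg hreg hex hπ rfl (hN (g + D) (by omega))
        (ih (g + D) (by push_cast at hg ⊢; omega) (by omega))
  · intro hM' g hg
    exact van_right hf hπg hreg hex hπ (sub_add_cancel g D) (hM n (by omega) g) (hM' _ (by omega))

end Seq

/-- Dividing by a regular sequence of homogeneous elements of positive degrees. -/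
theorem van_quot_seq (hpos : ∀ n : ℤ, n < 0 → ∀ x ∈ 𝒜 n, x = 0)
    (ha : m.toIdeal = Ideal.span (⋃ n ∈ Set.Ioi (0 : ℤ), (𝒜 n : Set R))) (L : List (R × ℤ)) :
    (∀ p ∈ L, p.1 ∈ 𝒜 p.2 ∧ 0 < p.2) →
    ∀ (M N : GrLC.GMod.{u} 𝒜) [Module.Finite R M.carrier] (π : M.carrier →ₗ[R] N.carrier),
      IsWeaklyRegular M.carrier (L.map Prod.fst) → Function.Surjective π →
      GrLC.IsGrHom M.gr N.gr π →
      LinearMap.ker π = Ideal.ofList (L.map Prod.fst) • (⊤ : Submodule R M.carrier) →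
      ∀ n, (∀ i, i < n + L.length → ∀ g, Van m M i g) → ∀ d : ℤ,
        ((∀ g, d < g → Van m N n g) ↔
          ∀ g, d - (L.map Prod.snd).sum < g → Van m M (n + L.length) g) := by
  induction L with
  | nil =>
    intro _ M N _ π _ hπ hπg hker n _ d
    have hinj : Function.Injective π := LinearMap.ker_eq_bot.1 (by rw [hker]; simp)
    let e := LinearEquiv.ofBijective π ⟨hinj, hπ⟩
    have he : GrLC.IsGrHom N.gr M.gr e.symm.toLinearMap := fun g y hy => by
      obtain ⟨z, hz, rfl⟩ := exists_preimage_piece M.gr N.gr ((isGrHom_iff _ _).1 hπg) (g := g)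
        (by rwa [add_zero]) (hπ y)
      show e.symm (π z) ∈ M.gr g
      rwa [show π z = e z from rfl, e.symm_apply_apply]
    simp only [List.map_nil, List.sum_nil, sub_zero, List.length_nil, add_zero]
    exact ⟨fun h g hg => van_congr e.symm.toLinearMap he e.symm.bijective (h g hg),
      fun h g hg => van_congr π hπg ⟨hinj, hπ⟩ (h g hg)⟩
  | cons p L ih =>
    intro hL M N _ π hwr hπ hπg hker n hM d
    obtain ⟨hx, hD⟩ := hL p List.mem_cons_self
    rw [List.map_cons, isWeaklyRegular_cons_iff] at hwr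
    let f : M.carrier →ₗ[R] M.carrier := p.1 • LinearMap.id
    have hf : GrLC.IsGrHomDeg M.gr M.gr f p.2 := fun g z hz => by
      show p.1 • z ∈ M.gr (g + p.2)
      rw [add_comm]
      exact smul_mem 𝒜 M.gr hx hz
    have hR : (LinearMap.range f).IsHomogeneous M.gr := range_homogeneous M.gr M.gr hf
    let M₁ := quotG 𝒜 M.gr hR
    let π₁ := quotMk 𝒜 M.gr hR
    haveI : Module.Finite R M₁.carrier := Module.Finite.of_surjective π₁ (quotMk_surjective _ _ hR)
    have hxker : LinearMap.range f ≤ LinearMap.ker π := by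
      rintro _ ⟨z, rfl⟩
      rw [hker]
      exact Submodule.smul_mem_smul (Ideal.subset_span List.mem_cons_self) Submodule.mem_top
    let π' : M₁.carrier →ₗ[R] N.carrier := (LinearMap.range f).liftQ π hxker
    have hπ's : Function.Surjective π' := fun y => by
      obtain ⟨z, rfl⟩ := hπ y
      exact ⟨π₁ z, rfl⟩
    have hπ'g : GrLC.IsGrHom M₁.gr N.gr π' := by
      rintro g _ ⟨z, hz, rfl⟩
      exact hπg g z hz
    have hrange : LinearMap.range f = p.1 • (⊤ : Submodule R M.carrier) := by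
      ext z
      simp [f, Submodule.mem_smul_pointwise_iff_exists]
    have hπ'k : LinearMap.ker π' = Ideal.ofList (L.map Prod.fst) • (⊤ : Submodule R M₁.carrier) := by
      have h2 : LinearMap.ker π' = (LinearMap.ker π).map π₁ := Submodule.ker_liftQ _ _ _
      rw [h2, hker, Submodule.map_smul'', Submodule.map_top,
        LinearMap.range_eq_top.2 (quotMk_surjective _ _ hR), List.map_cons, Ideal.ofList_cons,
        Submodule.sup_smul, sup_eq_right]
      refine Submodule.smul_le.2 fun c hc y _ => ?_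
      obtain ⟨c, rfl⟩ := Ideal.mem_span_singleton'.1 hc
      obtain ⟨z, rfl⟩ := quotMk_surjective _ _ hR y
      rw [← map_smul, LinearMap.mem_ker.1 ((ker_quotMk 𝒜 M.gr hR).ge
        (⟨c • z, by rw [mul_comm, mul_smul]; rfl⟩ :
          (c * p.1) • z ∈ LinearMap.range f))]
      exact zero_mem _
    have hwr₁ : IsWeaklyRegular M₁.carrier (L.map Prod.fst) := by
      have e : (M.carrier ⧸ LinearMap.range f) ≃ₗ[R] QuotSMulTop p.1 M.carrier :=
        Submodule.quotEquivOfEq _ _ hrange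
      exact (LinearEquiv.isWeaklyRegular_congr e _).2 hwr.2
    have hM' : ∀ i, i < n + L.length + 1 → ∀ g, Van m M i g := fun i hi =>
      hM i (by rw [List.length_cons]; omega)
    have hM₁ : ∀ i, i < n + L.length → ∀ g, Van m M₁ i g :=
      van_quot_below (m := m) hx hwr.1 (quotMk_surjective _ _ hR) (quotMk_grHom 𝒜 M.gr hR)
        (ker_quotMk 𝒜 M.gr hR) hM'
    refine (ih (fun q hq => hL q (List.mem_cons_of_mem _ hq)) M₁ N π' hwr₁ hπ's hπ'g hπ'k n hM₁ d).trans
      ((van_quot_end (m := m) hx hwr.1 (quotMk_surjective _ _ hR) (quotMk_grHom 𝒜 M.gr hR)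
        (ker_quotMk 𝒜 M.gr hR) hD ha hpos hM' _).trans ?_)
    rw [List.length_cons, List.map_cons, List.sum_cons, sub_sub, add_comm p.2, add_assoc]

/-- Vanishing in degree zero for a torsion module. -/
theorem van_zero_torsion_iff {N : GrLC.GMod.{u} 𝒜} (h : GrLC.gam m.toIdeal N.carrier = ⊤) (g : ℤ) :
    Van m N 0 g ↔ ∀ x ∈ N.gr g, x = 0 := by
  refine ⟨fun hN x hx => eq_zero_of_van_zero hN hx (h.ge Submodule.mem_top), fun hN E => ?_⟩
  obtain ⟨φ, hφ⟩ := exists_gam_piece_surjective E m g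
  refine (Submodule.eq_bot_iff _).2 fun z hz => ?_
  obtain ⟨⟨y, hy1, hy2⟩, hy⟩ := hφ ⟨z, hz⟩
  have h0 : y = 0 := hN y hy2
  have := congrArg Subtype.val hy
  rw [show (⟨y, hy1, hy2⟩ :
    ↥((GrLC.gam m.toIdeal N.carrier).restrictScalars (GrLC.deg0 𝒜) ⊓ GrLC.comp 𝒜 N.gr g)) = 0
    from Subtype.ext h0, map_zero] at this
  exact this.symm

/-- The top local cohomology read off from a full regular sequence. -/
theorem van_end_seq (hpos : ∀ n : ℤ, n < 0 → ∀ x ∈ 𝒜 n, x = 0)
    (ha : m.toIdeal = Ideal.span (⋃ n ∈ Set.Ioi (0 : ℤ), (𝒜 n : Set R))) (L : List (R × ℤ))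
    (hL : ∀ p ∈ L, p.1 ∈ 𝒜 p.2 ∧ 0 < p.2) (M N : GrLC.GMod.{u} 𝒜) [Module.Finite R M.carrier]
    (π : M.carrier →ₗ[R] N.carrier) (hwr : IsWeaklyRegular M.carrier (L.map Prod.fst))
    (hπ : Function.Surjective π) (hπg : GrLC.IsGrHom M.gr N.gr π)
    (hker : LinearMap.ker π = Ideal.ofList (L.map Prod.fst) • (⊤ : Submodule R M.carrier))
    (hvan : ∀ i, i < L.length → ∀ g, Van m M i g) (htor : GrLC.gam m.toIdeal N.carrier = ⊤) (d : ℤ) :
    (∀ g, d < g → Van m M L.length g) ↔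
      ∀ g, d + (L.map Prod.snd).sum < g → ∀ x ∈ M.gr g, π x = 0 := by
  have h := van_quot_seq hpos ha L hL M N π hwr hπ hπg hker 0
    (fun i hi => hvan i (by simpa using hi)) (d + (L.map Prod.snd).sum)
  rw [zero_add, add_sub_cancel_right] at h
  rw [← h]
  refine forall₂_congr fun g _ => (van_zero_torsion_iff htor g).trans ⟨fun hN x hx => hN _ (hπg g x hx),
    fun hM y hy => ?_⟩
  obtain ⟨x, hx, rfl⟩ := exists_preimage_piece M.gr N.gr ((isGrHom_iff _ _).1 hπg) (g := g)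
    (by rwa [add_zero]) (hπ y)
  exact hM x hx

/-- Nonnegativity of the grading, elementwise. -/
theorem eq_zero_of_neg {R : Type u} [CommRing R] {𝒜 : ℤ → AddSubgroup R}
    (hpos : ∀ n : ℤ, n < 0 → 𝒜 n = ⊥) : ∀ n : ℤ, n < 0 → ∀ x ∈ 𝒜 n, x = 0 := fun n hn x hx => by
  have : x ∈ (⊥ : AddSubgroup R) := hpos n hn ▸ hx
  exact this

end Groth.Agent.GrFieldLib
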