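import Mathlib
import Groth.Agent.GrFieldLib.Top

/-! Positively graded rings with a unique homogeneous maximal ideal. -/

set_option autoImplicit false
set_option linter.style.haveILetI false
set_option linter.unusedSectionVars false
set_option linter.overlappingInstances false
universe u

open DirectSum CategoryTheory TensorProduct GrInjLib

namespace Groth.Agent.GrFieldLib.StarLocal

/-- Local cohomology at a maximal ideal vanishes above its height. -/
theorem subsingleton_H_of_height_lt {R : Type u} [CommRing R] [IsNoetherianRing R] (P : Ideal R)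
    [P.IsMaximal] {n : ℕ} (hn : P.height ≤ n) (M : Type u) [AddCommGroup M] [Module R M] (i : ℕ)
    (hi : n < i) : Subsingleton ((localCohomology P i).obj (ModuleCat.of R M) : Type u) := by
  let B := Localization.AtPrime P
  haveI : Module.Flat R B := IsLocalization.flat _ P.primeCompl
  haveI : IsNoetherianRing B := IsLocalization.isNoetherianRing P.primeCompl _ inferInstance
  obtain ⟨e⟩ := LocCohLib.exists_baseChange B P M i
  have hdim : ringKrullDim B ≤ n := by
    rw [IsLocalization.AtPrime.ringKrullDim_eq_height P B]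
    exact_mod_cast hn
  haveI := LocCohLib.cdLE_of_ringKrullDim_local (P.map (algebraMap R B)) n hdim (B ⊗[R] M) i hi
  haveI : Subsingleton (B ⊗[R] ((localCohomology P i).obj (ModuleCat.of R M) : Type u)) :=
    e.toEquiv.subsingleton
  refine ⟨fun x y => ?_⟩
  suffices h : ∀ z : ((localCohomology P i).obj (ModuleCat.of R M) : Type u), z = 0 by
    rw [h x, h y]
  intro z
  obtain ⟨k, hk⟩ := LocCohLib.isPowerTorsion_H P i (ModuleCat.of R M) z
  have h1 : LocalizedModule.mkLinearMap P.primeCompl _ z = 0 :=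
    (LocalizedModule.equivTensorProduct P.primeCompl
      ((localCohomology P i).obj (ModuleCat.of R M) : Type u)).injective (Subsingleton.elim _ _)
  obtain ⟨s, hs⟩ := (IsLocalizedModule.eq_zero_iff P.primeCompl
    (LocalizedModule.mkLinearMap P.primeCompl _)).1 h1
  have hcop : P ^ k ⊔ Ideal.span {(s : R)} = ⊤ := by
    refine Ideal.pow_sup_eq_top (eq_top_iff.2 ?_)
    rw [← (Ideal.IsMaximal.out (self := ‹P.IsMaximal›)).2 (P ⊔ Ideal.span {(s : R)})
      (lt_of_le_of_ne le_sup_left fun he => s.2
        (he.ge (Submodule.mem_sup_right (Ideal.mem_span_singleton_self (s : R)))))]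
  obtain ⟨a, ha, c, hc, hac⟩ := Submodule.mem_sup.1 (hcop.ge (Submodule.mem_top (x := (1 : R))))
  obtain ⟨c', rfl⟩ := Ideal.mem_span_singleton'.1 hc
  rw [← one_smul R z, ← hac, add_smul, hk a ha, mul_smul]
  show 0 + c' • (s : R) • z = 0
  rw [show (s : R) • z = 0 from hs, smul_zero, add_zero]

/-- A regular element lowers the height in the quotient. -/
theorem height_map_succ_le {R : Type u} [CommRing R] [IsNoetherianRing R] (P : Ideal R) [P.IsMaximal]
    {x : R} (hx : x ∈ P) (hreg : IsSMulRegular R x) {n : ℕ} (hn : P.height = n) :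
    (P.map (Ideal.Quotient.mk (Ideal.span {x}))).height + 1 ≤ n := by
  classical
  have hle : Ideal.span {x} ≤ P := (Ideal.span_singleton_le_iff_mem _).2 hx
  set f := Ideal.Quotient.mk (Ideal.span {x})
  have hcomap : (P.map f).comap f = P := Ideal.comap_map_mk hle
  haveI : (P.map f).IsPrime := Ideal.map_isPrime_of_surjective Ideal.Quotient.mk_surjective
    (by rwa [Ideal.mk_ker])
  let Q : PrimeSpectrum (R ⧸ Ideal.span {x}) := ⟨P.map f, inferInstance⟩
  let PP : PrimeSpectrum R := ⟨P, inferInstance⟩
  rw [show (P.map f).height = Order.height Q from PrimeSpectrum.height_eq_orderHeight Q]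
  rw [show P.height = Order.height PP from PrimeSpectrum.height_eq_orderHeight PP] at hn
  have hkey : ∀ c : LTSeries (PrimeSpectrum (R ⧸ Ideal.span {x})), c.last ≤ Q →
      (c.length : ℕ∞) + 1 ≤ n := by
    intro c hc
    let c' : LTSeries (PrimeSpectrum R) := c.map (PrimeSpectrum.comap f) (fun a b hab =>
      lt_of_le_of_ne (Ideal.comap_mono (le_of_lt hab) : _)
        (fun h => hab.ne (PrimeSpectrum.comap_injective_of_surjective f
          Ideal.Quotient.mk_surjective h)))
    obtain ⟨p, hp, hple⟩ := Ideal.exists_minimalPrimes_le (I := (⊥ : Ideal R))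
      (bot_le (a := c'.head.asIdeal))
    have hlt : (⟨p, hp.1.1⟩ : PrimeSpectrum R) < c'.head := by
      refine lt_of_le_of_ne hple fun he => ?_
      have hxp : x ∈ p := by
        have h1 : x ∈ c'.head.asIdeal := by
          show f x ∈ c.head.asIdeal
          rw [Ideal.Quotient.eq_zero_iff_mem.2 (Ideal.mem_span_singleton_self x)]
          exact zero_mem _
        rwa [← he] at h1
      exact Ideal.disjoint_nonZeroDivisors_of_mem_minimalPrimes hp |>.ne_of_mem
        (show x ∈ (p : Set R) from hxp)
        (show x ∈ ((nonZeroDivisors R : Submonoid R) : Set R) from mem_nonZeroDivisors_iff_right.2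
          fun z hz => (isSMulRegular_iff_right_eq_zero_of_smul).1 hreg z (by rwa [smul_eq_mul, mul_comm]))
        rfl
    have h2 := Order.length_le_height (p := c'.cons _ hlt) (x := PP) (by
      rw [RelSeries.last_cons]
      show c.last.asIdeal.comap f ≤ P
      exact (Ideal.comap_mono (show c.last.asIdeal ≤ P.map f from hc)).trans hcomap.le)
    rw [hn] at h2
    rw [RelSeries.cons_length] at h2
    exact_mod_cast h2
  have hfin : Order.height Q ≠ ⊤ := fun htop => by
    obtain ⟨c, hc, hlen⟩ := Order.exists_series_of_le_height Q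
      (show (n : ℕ∞) ≤ Order.height Q from htop ▸ le_top)
    have := hkey c hc.le
    rw [hlen] at this
    exact absurd (show n + 1 ≤ n by exact_mod_cast this) (by omega)
  obtain ⟨l, hl⟩ := ENat.ne_top_iff_exists.1 hfin
  obtain ⟨c, hc, hlen⟩ := Order.exists_series_of_le_height Q hl.le
  rw [← hl, ← hlen]
  exact hkey c hc.le

variable {R : Type u} [CommRing R] {𝒜 : ℤ → AddSubgroup R} [GradedRing 𝒜]
  (hpos : ∀ n : ℤ, n < 0 → 𝒜 n = ⊥) {m : HomogeneousIdeal 𝒜} (hm : GrLC.IsStarLocal 𝒜 m)

include hpos hm in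
theorem irr_le : irr 𝒜 ≤ m.toIdeal := by
  let a : HomogeneousIdeal 𝒜 := ⟨irr 𝒜, Ideal.homogeneous_span 𝒜 _ fun y hy => by
    obtain ⟨n, -, hn⟩ := Set.mem_iUnion₂.1 hy
    exact ⟨n, hn⟩⟩
  by_contra hne
  have hlt : m < m ⊔ a := lt_of_le_of_ne le_sup_left fun he => hne (by
    have : a ≤ m := he ▸ le_sup_right
    exact this)
  have htop : (m ⊔ a).toIdeal = ⊤ := by rw [hm.1.2 _ hlt]; rfl
  rw [HomogeneousIdeal.toIdeal_sup] at htop
  obtain ⟨y, hy, z, hz, hyz⟩ := Submodule.mem_sup.1 (htop.ge (Submodule.mem_top (x := (1 : R))))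
  have hz0 : (decompose 𝒜 z 0 : R) = 0 := by
    suffices h : ∀ c : R, (decompose 𝒜 (c * z) 0 : R) = 0 by simpa using h 1
    have hzm : z ∈ irr 𝒜 := hz
    clear hz hyz
    induction hzm using Submodule.span_induction with
    | mem w hw =>
      intro c
      obtain ⟨b, hb, hwb⟩ := Set.mem_iUnion₂.1 hw
      have h1 := coe_decompose_mul_add_of_right_mem 𝒜 (a := c) (i := -b) hwb
      rw [neg_add_cancel] at h1
      rw [h1, eq_zero_of_neg hpos (-b) (by simp at hb; omega) _ (decompose 𝒜 c _).2, zero_mul]
    | zero => intro c; simp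
    | add p q _ _ hp hq =>
      intro c
      rw [mul_add, decompose_add, DirectSum.add_apply, AddSubgroup.coe_add, hp c, hq c, add_zero]
    | smul r p _ hp => intro c; rw [smul_eq_mul, ← mul_assoc]; exact hp _
  have h1 := congrArg (fun w => (decompose 𝒜 w 0 : R)) hyz
  simp only [decompose_add, DirectSum.add_apply, AddSubgroup.coe_add, hz0, add_zero,
    decompose_of_mem_same 𝒜 (SetLike.one_mem_graded 𝒜)] at h1
  have h2 : (1 : R) ∈ m.toIdeal := h1 ▸ m.isHomogeneous 0 hy
  exact hm.1.1 (HomogeneousIdeal.toIdeal_injective ((Ideal.eq_top_iff_one _).2 h2))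

include hpos hm in
/-- The unique homogeneous maximal ideal is maximal. -/
theorem isMaximal : m.toIdeal.IsMaximal := by
  classical
  refine Ideal.isMaximal_iff.2 ⟨fun h => hm.1.1
    (HomogeneousIdeal.toIdeal_injective ((Ideal.eq_top_iff_one _).2 h)), fun J x hJ hx hxJ => ?_⟩
  have hsub : x - (decompose 𝒜 x 0 : R) ∈ m.toIdeal := by
    clear hx hxJ
    induction x using DirectSum.Decomposition.inductionOn 𝒜 with
    | zero => simp
    | @homogeneous b w =>
      rcases lt_trichotomy b 0 with hb | hb | hb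
      · rw [eq_zero_of_neg hpos b hb _ w.2]; simp
      · subst hb; rw [decompose_of_mem_same 𝒜 w.2, sub_self]; exact zero_mem _
      · rw [decompose_of_mem_ne 𝒜 w.2 hb.ne', sub_zero]
        exact irr_le hpos hm (Ideal.subset_span (Set.mem_biUnion (x := b) hb w.2))
    | add u v hu hv =>
      rw [decompose_add, DirectSum.add_apply, AddSubgroup.coe_add, add_sub_add_comm]
      exact add_mem hu hv
  have hx0m : (decompose 𝒜 x 0 : R) ∉ m.toIdeal := fun h => hx (by
    simpa using add_mem hsub h)
  have hx0J : (decompose 𝒜 x 0 : R) ∈ J := by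
    have := J.sub_mem hxJ (hJ hsub)
    rwa [sub_sub_cancel] at this
  let c : HomogeneousIdeal 𝒜 := ⟨Ideal.span {(decompose 𝒜 x 0 : R)}, Ideal.homogeneous_span 𝒜 _
    fun y hy => ⟨0, by rw [Set.mem_singleton_iff.1 hy]; exact (decompose 𝒜 x 0).2⟩⟩
  have hlt : m < m ⊔ c := lt_of_le_of_ne le_sup_left fun he => hx0m (by
    have : c ≤ m := he ▸ le_sup_right
    exact this (Ideal.mem_span_singleton_self _))
  have htop : (m ⊔ c).toIdeal = ⊤ := by rw [hm.1.2 _ hlt]; rfl
  rw [HomogeneousIdeal.toIdeal_sup] at htop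
  exact (sup_le hJ ((Ideal.span_singleton_le_iff_mem _).2 hx0J)) (htop.ge Submodule.mem_top)

end Groth.Agent.GrFieldLib.StarLocal
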