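import Mathlib
import Groth.Agent.GrFieldLib.Top

/-! Homogeneous regular sequences of full length. -/

set_option autoImplicit false
set_option linter.style.haveILetI false
set_option linter.unusedSectionVars false
set_option linter.overlappingInstances false
universe u

open DirectSum RingTheory.Sequence GrInjLib
open scoped Pointwise nonZeroDivisors

namespace Groth.Agent.GrFieldLib

variable {R : Type u} [CommRing R] {𝒜 : ℤ → AddSubgroup R} [GradedRing 𝒜]

theorem decompose_comp (r : R) (i : ℤ) :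
    (decompose (compPieces 𝒜) r i : R) = (decompose 𝒜 r i : R) := by
  induction r using DirectSum.Decomposition.inductionOn 𝒜 with
  | zero => rw [decompose_zero, decompose_zero]; rfl
  | @homogeneous b w =>
    by_cases h : b = i
    · subst h
      rw [decompose_of_mem_same 𝒜 w.2, decompose_of_mem_same (compPieces 𝒜) (x := (w : R)) w.2]
    · rw [decompose_of_mem_ne 𝒜 w.2 h, decompose_of_mem_ne (compPieces 𝒜) (x := (w : R)) w.2 h]
  | add v w hv hw =>
    rw [decompose_add, decompose_add, DirectSum.add_apply, DirectSum.add_apply, Submodule.coe_add,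
      AddSubgroup.coe_add, hv, hw]

theorem homogeneous_comp {J : Ideal R} (hJ : J.IsHomogeneous 𝒜) : J.IsHomogeneous (compPieces 𝒜) :=
  fun i r hr => by
    show (decompose (compPieces 𝒜) r i : R) ∈ J
    rw [decompose_comp]
    exact hJ i hr

variable (hpos : ∀ n : ℤ, n < 0 → 𝒜 n = ⊥) (h0 : IsField (GrLC.deg0 𝒜))

include hpos h0 in
/-- A homogeneous ideal of dimension zero is primary to the irrelevant ideal. -/
theorem irr_le_radical {J : Ideal R} (hJ : J.IsHomogeneous 𝒜) (hd : ringKrullDim (R ⧸ J) ≤ 0) :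
    irr 𝒜 ≤ J.radical := by
  letI := h0.toField
  rw [← Ideal.sInf_minimalPrimes]
  refine le_sInf fun q hq => ?_
  haveI := hq.1.1
  have hq' : q ≤ irr 𝒜 := GrSegreLib.le_irr (compPieces 𝒜) (comp_pos 𝒜 hpos) (comp_zero 𝒜)
    (GrSegreLib.minimalPrimes_homogeneous (compPieces 𝒜) (homogeneous_comp hJ) hq) hq.1.1.ne_top
  have hdq : ringKrullDim (R ⧸ q) ≤ (0 : ℕ) :=
    (ringKrullDim_le_of_surjective (Ideal.Quotient.factor hq.1.2)
      (Ideal.Quotient.factor_surjective hq.1.2)).trans hd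
  haveI : Ring.KrullDimLE 0 (R ⧸ q) := Ring.krullDimLE_iff.2 hdq
  have hmax : q.IsMaximal := Ideal.Quotient.maximal_of_isField _ Ring.KrullDimLE.isField_of_isDomain
  exact (hmax.eq_of_le (irr_isMaximal 𝒜 hpos h0).ne_top hq').ge

variable [IsNoetherianRing R] {m : HomogeneousIdeal 𝒜}

include hpos h0 in
/-- Regular sequences of homogeneous elements cutting down to dimension zero. -/
theorem exists_regular_seq_aux (hm : m.toIdeal = irr 𝒜) : ∀ (n : ℕ) (J : Ideal R)
    (hJ : J.IsHomogeneous 𝒜), ringKrullDim (R ⧸ J) ≤ n →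
    (∀ i, i < n → ∀ g, Van m (quotG 𝒜 (ringPieces 𝒜) (ideal_homogeneous 𝒜 hJ)) i g) →
    ∃ L : List (R × ℤ), (∀ p ∈ L, p.1 ∈ 𝒜 p.2 ∧ 0 < p.2) ∧ L.length = n ∧
      IsWeaklyRegular (R ⧸ J) (L.map Prod.fst) ∧
      irr 𝒜 ≤ (J ⊔ Ideal.ofList (L.map Prod.fst)).radical := by
  intro n
  induction n with
  | zero =>
    intro J hJ hd _
    refine ⟨[], by simp, rfl, IsWeaklyRegular.nil R _, ?_⟩
    simpa using irr_le_radical hpos h0 hJ hd
  | succ n ih =>
    intro J hJ hd hvan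
    let N := quotG 𝒜 (ringPieces 𝒜) (ideal_homogeneous 𝒜 hJ)
    haveI : Module.Finite R N.carrier :=
      Module.Finite.of_surjective (quotMk 𝒜 (ringPieces 𝒜) (ideal_homogeneous 𝒜 hJ))
        (quotMk_surjective 𝒜 (ringPieces 𝒜) (ideal_homogeneous 𝒜 hJ))
    have hgam : GrLC.gam m.toIdeal N.carrier = ⊥ := by
      refine (Submodule.eq_bot_iff _).2 fun y hy => ?_
      classical
      rw [← sum_support_decompose N.gr y]
      exact Finset.sum_eq_zero fun g _ => eq_zero_of_van_zero (hvan 0 (by omega) g)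
        (decompose N.gr y g).2 (gam_homogeneous N.gr m g hy)
    obtain ⟨x, D, hD, hx, hreg⟩ := exists_regular 𝒜 m (M := N.carrier) hgam hm
    have hK : (J ⊔ Ideal.span {x}).IsHomogeneous 𝒜 := hJ.sup (Ideal.homogeneous_span 𝒜 _
      fun y hy => ⟨(D : ℤ), by rw [Set.mem_singleton_iff.1 hy]; exact hx⟩)
    have hxJ : ∀ z : R, x * z ∈ J → z ∈ J := fun z hz => by
      have h1 := (isSMulRegular_iff_right_eq_zero_of_smul).1 hreg
        (quotMk 𝒜 (ringPieces 𝒜) (ideal_homogeneous 𝒜 hJ) z) (by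
          rw [← map_smul, smul_eq_mul, ← LinearMap.mem_ker, ker_quotMk]
          exact hz)
      rwa [← LinearMap.mem_ker, ker_quotMk] at h1
    have hd' : ringKrullDim (R ⧸ (J ⊔ Ideal.span {x})) ≤ n := by
      have hnz : Ideal.Quotient.mk J x ∈ (R ⧸ J)⁰ := by
        refine mem_nonZeroDivisors_iff_right.2 fun z hz => ?_
        obtain ⟨z, rfl⟩ := Ideal.Quotient.mk_surjective z
        rw [← map_mul, Ideal.Quotient.eq_zero_iff_mem, mul_comm] at hz
        exact Ideal.Quotient.eq_zero_iff_mem.2 (hxJ z hz)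
      have h1 := (ringKrullDim_quotient_succ_le_of_nonZeroDivisor hnz).trans hd
      have h2 : ringKrullDim (R ⧸ (J ⊔ Ideal.span {x})) =
          ringKrullDim ((R ⧸ J) ⧸ Ideal.span {Ideal.Quotient.mk J x}) := by
        rw [← Set.image_singleton, ← Ideal.map_span]
        exact (ringKrullDim_eq_of_ringEquiv (DoubleQuot.quotQuotEquivQuotSup J _)).symm
      rw [h2]
      push_cast at h1
      exact ENat.WithBot.add_le_add_one_right_iff.1 h1
    let N' := quotG 𝒜 (ringPieces 𝒜) (ideal_homogeneous 𝒜 hK)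
    let π : N.carrier →ₗ[R] N'.carrier := Submodule.liftQ J
      (quotMk 𝒜 (ringPieces 𝒜) (ideal_homogeneous 𝒜 hK))
      (le_sup_left.trans (ker_quotMk 𝒜 (ringPieces 𝒜) (ideal_homogeneous 𝒜 hK)).ge)
    have hπs : Function.Surjective π := fun y => by
      obtain ⟨z, rfl⟩ := quotMk_surjective 𝒜 (ringPieces 𝒜) (ideal_homogeneous 𝒜 hK) y
      exact ⟨quotMk 𝒜 (ringPieces 𝒜) (ideal_homogeneous 𝒜 hJ) z, rfl⟩
    have hπg : GrLC.IsGrHom N.gr N'.gr π := by
      rintro g _ ⟨z, hz, rfl⟩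
      exact ⟨z, hz, rfl⟩
    have hπk : LinearMap.ker π =
        LinearMap.range (x • (LinearMap.id : N.carrier →ₗ[R] N.carrier)) := by
      ext y
      obtain ⟨z, rfl⟩ := quotMk_surjective 𝒜 (ringPieces 𝒜) (ideal_homogeneous 𝒜 hJ) y
      rw [LinearMap.mem_ker, LinearMap.mem_range,
        show π (quotMk 𝒜 (ringPieces 𝒜) (ideal_homogeneous 𝒜 hJ) z) =
          quotMk 𝒜 (ringPieces 𝒜) (ideal_homogeneous 𝒜 hK) z from rfl,
        ← LinearMap.mem_ker, ker_quotMk]
      constructor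
      · intro hz
        obtain ⟨a, ha, b, hb, rfl⟩ := Submodule.mem_sup.1 hz
        obtain ⟨c, rfl⟩ := Ideal.mem_span_singleton'.1 hb
        refine ⟨quotMk 𝒜 (ringPieces 𝒜) (ideal_homogeneous 𝒜 hJ) c, ?_⟩
        rw [map_add, LinearMap.mem_ker.1 ((ker_quotMk 𝒜 (ringPieces 𝒜)
          (ideal_homogeneous 𝒜 hJ)).ge ha), zero_add, mul_comm]
        exact (map_smul (quotMk 𝒜 (ringPieces 𝒜) (ideal_homogeneous 𝒜 hJ)) x c).symm
      · rintro ⟨w, hw⟩
        obtain ⟨c, rfl⟩ := quotMk_surjective 𝒜 (ringPieces 𝒜) (ideal_homogeneous 𝒜 hJ) w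
        have h1 : z - x * c ∈ J := by
          rw [← ker_quotMk 𝒜 (ringPieces 𝒜) (ideal_homogeneous 𝒜 hJ), LinearMap.mem_ker, map_sub,
            ← hw, ← smul_eq_mul, map_smul]
          exact sub_self _
        have := Submodule.add_mem_sup h1
          (Ideal.mem_span_singleton'.2 ⟨c, mul_comm c x⟩ : x * c ∈ Ideal.span {x})
        rwa [sub_add_cancel] at this
    obtain ⟨L, hL, hlen, hwr, hrad⟩ := ih (J ⊔ Ideal.span {x}) hK hd'
      (van_quot_below (m := m) (M := N) (N := N') hx hreg hπs hπg hπk hvan)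
    refine ⟨(x, (D : ℤ)) :: L, fun p hp => ?_, by simp [hlen], ?_, ?_⟩
    · rcases List.mem_cons.1 hp with rfl | hp
      · exact ⟨hx, show (0 : ℤ) < (D : ℤ) by exact_mod_cast hD⟩
      · exact hL p hp
    · rw [List.map_cons, isWeaklyRegular_cons_iff]
      have hr : LinearMap.range (x • (LinearMap.id : N.carrier →ₗ[R] N.carrier)) =
          x • (⊤ : Submodule R N.carrier) := by
        ext z
        simp [Submodule.mem_smul_pointwise_iff_exists]
      let eN : QuotSMulTop x N.carrier ≃ₗ[R] N'.carrier :=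
        (Submodule.quotEquivOfEq _ _ ((hπk.trans hr)).symm).trans (π.quotKerEquivOfSurjective hπs)
      exact ⟨hreg, (LinearEquiv.isWeaklyRegular_congr eN _).2 hwr⟩
    · rw [List.map_cons, Ideal.ofList_cons, ← sup_assoc]
      exact hrad

include hpos h0 in
/-- A Cohen–Macaulay ring has a homogeneous regular sequence of the length of its dimension,
primary to the irrelevant ideal. -/
theorem exists_regular_seq [LocCoh.IsCohenMacaulayRing R] (hm : m.toIdeal = irr 𝒜) {n : ℕ}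
    (hn : ringKrullDim R = n) :
    ∃ L : List (R × ℤ), (∀ p ∈ L, p.1 ∈ 𝒜 p.2 ∧ 0 < p.2) ∧ L.length = n ∧
      IsWeaklyRegular R (L.map Prod.fst) ∧ irr 𝒜 ≤ (Ideal.ofList (L.map Prod.fst)).radical := by
  have hJ : (⊥ : Ideal R).IsHomogeneous 𝒜 := Ideal.IsHomogeneous.bot _
  have hd : ringKrullDim (R ⧸ (⊥ : Ideal R)) ≤ n :=
    ((ringKrullDim_eq_of_ringEquiv (RingEquiv.quotientBot R)).trans hn).le
  obtain ⟨L, h1, h2, h3, h4⟩ := exists_regular_seq_aux hpos h0 hm n ⊥ hJ hd fun i hi g =>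
    van_congr (M := ringG (𝒜 := 𝒜)) (quotMk 𝒜 (ringPieces 𝒜) (ideal_homogeneous 𝒜 hJ))
      (quotMk_grHom 𝒜 (ringPieces 𝒜) (ideal_homogeneous 𝒜 hJ))
      ⟨LinearMap.ker_eq_bot.1 (ker_quotMk 𝒜 (ringPieces 𝒜) (ideal_homogeneous 𝒜 hJ)),
        quotMk_surjective 𝒜 (ringPieces 𝒜) (ideal_homogeneous 𝒜 hJ)⟩
      (van_below_dim hpos h0 hm hn i hi g)
  rw [bot_sup_eq] at h4
  exact ⟨L, h1, h2, (LinearEquiv.isWeaklyRegular_congr
    (Submodule.quotEquivOfEqBot (⊥ : Ideal R) rfl) _).1 h3, h4⟩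

end Groth.Agent.GrFieldLib
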