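import Mathlib
import Groth.Agent.GrFieldLib.RegSeq
import Groth.Agent.GrInjLib.Primes
import Groth.Agent.GrInjLib.Hull

/-! Duality between a canonical module and the top local cohomology over a field. -/

set_option autoImplicit false
set_option linter.style.haveILetI false
set_option linter.unusedSectionVars false
set_option linter.overlappingInstances false
universe u

open DirectSum GrInjLib

namespace Groth.Agent.GrFieldLib.Dual

variable {R : Type u} [CommRing R] {𝒜 : ℤ → AddSubgroup R} [GradedRing 𝒜]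
  (hpos : ∀ n : ℤ, n < 0 → 𝒜 n = ⊥) (h0 : IsField (GrLC.deg0 𝒜))
  {m : HomogeneousIdeal 𝒜} (hmsp : m.toIdeal = irr 𝒜)
  {E' : Type u} [AddCommGroup E'] [Module R E'] {𝓔 : ℤ → AddSubgroup E'} [Decomposition 𝓔]
  [SetLike.GradedSMul 𝒜 𝓔] {e : (R ⧸ m.toIdeal) →ₗ[R] E'}
  (he : GrLC.IsStarInjHull 𝒜 (GrLC.quotGr 𝒜 m) 𝓔 e)

include he in
theorem socle_mem : e (Submodule.Quotient.mk 1) ∈ 𝓔 0 :=
  he.grHom 0 _ ⟨1, SetLike.one_mem_graded 𝒜, rfl⟩

theorem smul_socle (c : R) :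
    c • e (Submodule.Quotient.mk 1) = e (Submodule.Quotient.mk c) := by
  rw [← map_smul, ← Submodule.Quotient.mk_smul, smul_eq_mul, mul_one]

include hmsp he in
theorem socle_killed {c : R} (hc : c ∈ irr 𝒜) : c • e (Submodule.Quotient.mk 1) = 0 := by
  rw [smul_socle, (Submodule.Quotient.mk_eq_zero _).2 (hmsp ▸ hc), map_zero]

include hpos h0 hmsp he in
theorem smul_socle_inj (t : GrLC.deg0 𝒜) (ht : (t : R) • e (Submodule.Quotient.mk 1) = 0) : t = 0 := by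
  by_contra hne
  obtain ⟨b, hb⟩ := h0.mul_inv_cancel hne
  rw [smul_socle, ← map_zero e] at ht
  have h1 : (t : R) ∈ m.toIdeal := (Submodule.Quotient.mk_eq_zero _).1 (he.injective ht)
  have h2 : (1 : R) ∈ irr 𝒜 := by
    rw [← hmsp, show (1 : R) = t * (b : R) from (congrArg Subtype.val hb).symm]
    exact Ideal.mul_mem_right _ _ h1
  exact (irr_isMaximal 𝒜 hpos h0).ne_top ((Ideal.eq_top_iff_one _).2 h2)

variable {C : Type u} [AddCommGroup C] [Module R C] {𝒞 : ℤ → AddSubgroup C} [Decomposition 𝒞]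
  [SetLike.GradedSMul 𝒜 𝒞]

include hpos h0 hmsp he in
/-- A nonzero vector of degree `j` outside a subspace is seen by a map of degree `-j`. -/
theorem exists_functional {j : ℤ} (W : Submodule (GrLC.deg0 𝒜) (GrLC.comp 𝒜 𝒞 j))
    (z : GrLC.comp 𝒜 𝒞 j) (hz : z ∉ W) :
    ∃ h : C →ₗ[R] E', GrLC.IsGrHomDeg 𝒞 𝓔 h (-j) ∧ h (z : C) ≠ 0 ∧ ∀ w ∈ W, h (w : C) = 0 := by
  classical
  letI : Field (GrLC.deg0 𝒜) := h0.toField
  obtain ⟨ψ, hψW, hψz⟩ : ∃ ψ : Module.Dual (GrLC.deg0 𝒜) (GrLC.comp 𝒜 𝒞 j),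
      (∀ w ∈ W, ψ w = 0) ∧ ψ z ≠ 0 := by
    obtain ⟨ψ, hψz, hψW⟩ := Submodule.exists_dual_map_eq_bot_of_notMem hz inferInstance
    exact ⟨ψ, fun w hw => (Submodule.mem_bot _).1 (hψW.le ⟨w, hw, rfl⟩), hψz⟩
  have hneg := eq_zero_of_neg hpos
  have hsm : ∀ {a : ℤ} {c : R}, c ∈ 𝒜 a → ∀ (y : C) (b : ℤ),
      proj 𝒞 b (c • y) = c • proj 𝒞 (b - a) y := fun {a c} hc y b => by
    have := proj_smul 𝒜 𝒞 hc y (b - a)
    rwa [add_sub_cancel] at this
  let P : Submodule R C :=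
    { carrier := {y | ∀ b, b < j → proj 𝒞 b y = 0}
      zero_mem' := fun b _ => map_zero _
      add_mem' := fun {y y'} hy hy' b hb => by rw [map_add, hy b hb, hy' b hb, add_zero]
      smul_mem' := fun c y hy b hb => by
        induction c using smul_induction 𝒜 with
        | h0 => simp
        | hadd r s hr hs => rw [add_smul, map_add, hr, hs, add_zero]
        | hhom a r hr =>
          rw [hsm hr]
          rcases lt_or_ge a 0 with ha | ha
          · rw [hneg a ha r hr, zero_smul]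
          · rw [hy (b - a) (by omega), smul_zero] }
  have hP : P.IsHomogeneous 𝒞 := fun g y hy b hb => by
    show proj 𝒞 b (proj 𝒞 g y) = 0
    by_cases hgb : g = b
    · subst hgb; rw [hy g hb, map_zero]
    · exact proj_of_mem_ne 𝒞 (proj_mem 𝒞 g y) hgb
  let e1 := e (Submodule.Quotient.mk 1)
  let val : C → E' := fun y => ((ψ ⟨proj 𝒞 j y, proj_mem 𝒞 j y⟩ : GrLC.deg0 𝒜) : R) • e1
  have val_add : ∀ y y', val (y + y') = val y + val y' := fun y y' => by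
    show _ • e1 = _ • e1 + _ • e1
    rw [← add_smul]
    congr 1
    rw [← AddMemClass.coe_add, ← map_add]
    exact congrArg Subtype.val (congrArg ψ (Subtype.ext (map_add (proj 𝒞 j) y y')))
  have val_smul : ∀ (c : R) (y : C), y ∈ P → val (c • y) = c • val y := by
    intro c y hy
    induction c using smul_induction 𝒜 with
    | h0 =>
      rw [zero_smul, zero_smul]
      show _ • e1 = 0
      rw [show (⟨proj 𝒞 j (0 : C), proj_mem 𝒞 j 0⟩ : GrLC.comp 𝒜 𝒞 j) = 0 from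
        Subtype.ext (map_zero _), map_zero]
      exact zero_smul R e1
    | hadd r s hr hs => rw [add_smul, val_add, hr, hs, add_smul]
    | hhom a r hr =>
      show ((ψ ⟨proj 𝒞 j (r • y), proj_mem 𝒞 j _⟩ : GrLC.deg0 𝒜) : R) • e1 =
        r • ((ψ ⟨proj 𝒞 j y, proj_mem 𝒞 j y⟩ : GrLC.deg0 𝒜) : R) • e1
      rcases lt_trichotomy a 0 with ha | ha | ha
      · rw [show (⟨proj 𝒞 j (r • y), proj_mem 𝒞 j _⟩ : GrLC.comp 𝒜 𝒞 j) = 0 from
          Subtype.ext (by simp [hneg a ha r hr]), map_zero, hneg a ha r hr]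
        simp
      · subst ha
        rw [show (⟨proj 𝒞 j (r • y), proj_mem 𝒞 j _⟩ : GrLC.comp 𝒜 𝒞 j) =
          (⟨r, hr⟩ : GrLC.deg0 𝒜) • ⟨proj 𝒞 j y, proj_mem 𝒞 j y⟩ from
          Subtype.ext (by
            show proj 𝒞 j (r • y) = r • proj 𝒞 j y
            rw [hsm hr, sub_zero]), map_smul, smul_smul]
        rfl
      · rw [show (⟨proj 𝒞 j (r • y), proj_mem 𝒞 j _⟩ : GrLC.comp 𝒜 𝒞 j) = 0 from
          Subtype.ext (by
            show proj 𝒞 j (r • y) = 0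
            rw [hsm hr, hy (j - a) (by omega), smul_zero]), map_zero]
        rw [← smul_comm, socle_killed hmsp he (Ideal.subset_span (Set.mem_biUnion (x := a) ha hr)),
          smul_zero]
        exact zero_smul R e1
  let f : (subG 𝒜 𝒞 hP).carrier →ₗ[R] E' :=
    { toFun := fun y => val (subIncl 𝒜 𝒞 hP y)
      map_add' := fun y y' => by rw [map_add, val_add]
      map_smul' := fun c y => by
        rw [map_smul, RingHom.id_apply, val_smul c _ (subIncl_mem 𝒜 𝒞 hP y)] }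
  have hfdeg : GrLC.IsGrHomDeg (subG 𝒜 𝒞 hP).gr 𝓔 f (-j) := by
    intro g y hy
    have hy' : subIncl 𝒜 𝒞 hP y ∈ 𝒞 g := subIncl_grHom 𝒜 𝒞 hP g y hy
    show val _ ∈ 𝓔 (g + -j)
    by_cases hg : g = j
    · subst hg
      rw [add_neg_cancel]
      show ((ψ ⟨proj 𝒞 g (subIncl 𝒜 𝒞 hP y), proj_mem 𝒞 g _⟩ : GrLC.deg0 𝒜) : R) • e1 ∈ 𝓔 0
      have h9 := smul_mem 𝒜 𝓔 (ψ ⟨proj 𝒞 g (subIncl 𝒜 𝒞 hP y), proj_mem 𝒞 g _⟩).2 (socle_mem he)
      rw [add_zero] at h9
      exact h9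
    · show _ • e1 ∈ _
      rw [show (⟨proj 𝒞 j (subIncl 𝒜 𝒞 hP y), proj_mem 𝒞 j _⟩ : GrLC.comp 𝒜 𝒞 j) = 0 from
        Subtype.ext (proj_of_mem_ne 𝒞 hy' hg), map_zero]
      rw [show ((0 : GrLC.deg0 𝒜) : R) • e1 = 0 from zero_smul R e1]
      exact zero_mem _
  obtain ⟨h, hh, hhf⟩ := extend_deg 𝒜 (subG 𝒜 𝒞 hP).gr 𝒞 he.starInj
    (subIncl_grHom 𝒜 𝒞 hP) (subIncl_injective 𝒜 𝒞 hP) hfdeg
  have hev : ∀ w : GrLC.comp 𝒜 𝒞 j, h (w : C) = ((ψ w : GrLC.deg0 𝒜) : R) • e1 := fun w => by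
    have hwP : (w : C) ∈ P := fun b hb => proj_of_mem_ne 𝒞 w.2 hb.ne'
    have := LinearMap.congr_fun hhf (⟨(w : C), hwP⟩ : P)
    refine this.trans ?_
    show ((ψ ⟨proj 𝒞 j (w : C), _⟩ : GrLC.deg0 𝒜) : R) • e1 = _
    rw [show (⟨proj 𝒞 j (w : C), proj_mem 𝒞 j _⟩ : GrLC.comp 𝒜 𝒞 j) = w from
      Subtype.ext (proj_of_mem 𝒞 w.2)]
  refine ⟨h, hh, fun h1 => hψz (smul_socle_inj hpos h0 hmsp he _ ((hev z).symm.trans h1)),
    fun w hw => ?_⟩
  rw [hev, hψW w hw]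
  exact zero_smul R e1

include hpos hmsp he in
theorem proj_socle (c : R) {b : ℤ} (hb : b ≠ 0) :
    proj 𝓔 b (c • e (Submodule.Quotient.mk 1)) = 0 := by
  induction c using smul_induction 𝒜 with
  | h0 => simp
  | hadd r s hr hs => rw [add_smul, map_add, hr, hs, add_zero]
  | hhom a r hr =>
    rcases lt_trichotomy a 0 with ha | ha | ha
    · rw [eq_zero_of_neg hpos a ha r hr, zero_smul, map_zero]
    · subst ha
      refine proj_of_mem_ne 𝓔 (smul_mem 𝒜 𝓔 hr (socle_mem he)) ?_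
      rw [add_zero]; exact hb.symm
    · rw [socle_killed hmsp he (Ideal.subset_span (Set.mem_biUnion (x := a) ha hr)), map_zero]

include hpos hmsp he in
/-- A map of degree `d` is determined by its values on the piece of degree `-d`. -/
theorem eq_zero_of_piece {h : C →ₗ[R] E'} {d : ℤ} (hh : GrLC.IsGrHomDeg 𝒞 𝓔 h d)
    (hzero : ∀ y ∈ 𝒞 (-d), h y = 0) : h = 0 := by
  refine ext_homogeneous 𝒞 fun g y hy => ?_
  rw [LinearMap.zero_apply]
  by_contra hne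
  have hsp : (R ∙ h y).IsHomogeneous 𝓔 := span_singleton_homogeneous 𝒜 𝓔 (hh g y hy)
  have hmeet := he.essential _ hsp (by rw [ne_eq, Submodule.span_singleton_eq_bot]; exact hne)
  obtain ⟨w, hw, hw0⟩ := Submodule.exists_mem_ne_zero_of_ne_bot hmeet
  obtain ⟨c, rfl⟩ := Submodule.mem_span_singleton.1 hw.1
  have hP : (LinearMap.range e).IsHomogeneous 𝓔 := range_hull_homogeneous 𝒜 m 𝓔 he.grHom
  obtain ⟨a, r, hr, hrm, hr0⟩ := exists_homogeneous_smul 𝒜 𝓔 hP (hh g y hy) hw.2 hw0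
  obtain ⟨q, hq⟩ := hrm
  obtain ⟨q, rfl⟩ := Submodule.Quotient.mk_surjective _ q
  have hdeg : a + (g + d) = 0 := by
    by_contra hne0
    have h1 : proj 𝓔 (a + (g + d)) (r • h y) = r • h y :=
      proj_of_mem 𝓔 (smul_mem 𝒜 𝓔 hr (hh g y hy))
    rw [← hq, ← smul_socle] at h1
    refine hr0 ?_
    rw [← hq, ← smul_socle, ← h1]
    exact proj_socle hpos hmsp he q hne0
  refine hr0 ?_
  rw [← map_smul]
  refine hzero _ ?_
  have := smul_mem 𝒜 𝒞 hr hy
  rwa [show a + g = -d by omega] at this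

end Groth.Agent.GrFieldLib.Dual
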