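import Mathlib
import Groth.Agent.GrFieldLib.RegSeq
import Groth.Agent.GrRegLib.Poly

/-! Standard graded algebras over a field as quotients of polynomial rings. -/

set_option autoImplicit false
set_option linter.style.haveILetI false
set_option linter.unusedSectionVars false
set_option linter.overlappingInstances false
universe u

open DirectSum RingTheory.Sequence GrInjLib

namespace Groth.Agent.GrFieldLib.Std

variable {K R : Type u} [Field K] [CommRing R] [Algebra K R] {𝒜 : ℤ → AddSubgroup R} [GradedRing 𝒜]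
  (hpos : ∀ n : ℤ, n < 0 → ∀ x ∈ 𝒜 n, x = 0) (hK : ∀ c : K, algebraMap K R c ∈ 𝒜 0)
  (hK' : ∀ x ∈ 𝒜 0, ∃ c : K, algebraMap K R c = x)
  (hstd : irr 𝒜 = Ideal.span ((𝒜 1 : AddSubgroup R) : Set R))

include hpos in
theorem decompose_irr_zero {y : R} (hy : y ∈ irr 𝒜) : (decompose 𝒜 y 0 : R) = 0 := by
  suffices h : ∀ c : R, (decompose 𝒜 (c * y) 0 : R) = 0 by simpa using h 1
  induction hy using Submodule.span_induction with
  | mem z hz =>
    intro c
    obtain ⟨b, hb, hzb⟩ := Set.mem_iUnion₂.1 hz
    have h1 := coe_decompose_mul_add_of_right_mem 𝒜 (a := c) (i := -b) hzb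
    rw [neg_add_cancel] at h1
    rw [h1, hpos (-b) (by simp at hb; omega) _ (decompose 𝒜 c _).2, zero_mul]
  | zero => intro c; simp
  | add p q _ _ hp hq =>
    intro c
    rw [mul_add, decompose_add, DirectSum.add_apply, AddSubgroup.coe_add, hp c, hq c, add_zero]
  | smul r p _ hp => intro c; rw [smul_eq_mul, ← mul_assoc]; exact hp _

include hpos in
/-- The degree one component of an element of a span. -/
theorem decompose_one_mem (T : Set R) (hT : T ⊆ irr 𝒜) (W : Submodule K R)
    (hW : ∀ t ∈ T, (decompose 𝒜 t 1 : R) ∈ W) (hK' : ∀ x ∈ 𝒜 0, ∃ c : K, algebraMap K R c = x)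
    {y : R} (hy : y ∈ Ideal.span T) : (decompose 𝒜 y 1 : R) ∈ W := by
  suffices h : ∀ c : R, (decompose 𝒜 (c * y) 1 : R) ∈ W by simpa using h 1
  induction hy using Submodule.span_induction with
  | mem z hz =>
    intro c
    induction c using DirectSum.Decomposition.inductionOn 𝒜 with
    | zero => simp
    | @homogeneous b w =>
      have h1 := coe_decompose_mul_add_of_left_mem 𝒜 (b := z) (j := 1 - b) w.2
      rw [add_sub_cancel] at h1
      rw [h1]
      rcases lt_trichotomy b 0 with hb | hb | hb
      · rw [hpos b hb _ w.2, zero_mul]; exact zero_mem _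
      · subst hb
        obtain ⟨c', hc'⟩ := hK' _ w.2
        rw [sub_zero, ← hc', ← Algebra.smul_def]
        exact W.smul_mem c' (hW z hz)
      · rcases eq_or_lt_of_le (show (1 : ℤ) ≤ b from hb) with hb' | hb'
        · subst hb'; rw [sub_self, decompose_irr_zero hpos (hT hz), mul_zero]; exact zero_mem _
        · rw [hpos (1 - b) (by omega) _ (decompose 𝒜 z _).2, mul_zero]; exact zero_mem _
    | add u v hu hv =>
      rw [add_mul, decompose_add, DirectSum.add_apply, AddSubgroup.coe_add]
      exact add_mem hu hv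
  | zero => intro c; simp
  | add p q _ _ hp hq =>
    intro c
    rw [mul_add, decompose_add, DirectSum.add_apply, AddSubgroup.coe_add]
    exact add_mem (hp c) (hq c)
  | smul r p _ hp => intro c; rw [smul_eq_mul, ← mul_assoc]; exact hp _

include hpos hK hK' hstd in
/-- A linearly independent family of linear forms generating the irrelevant ideal, with the bound on
its size coming from local generators. -/
theorem exists_linear_basis [IsNoetherianRing R] :
    ∃ (h : ℕ) (b : Fin h → R), (∀ j, b j ∈ 𝒜 1) ∧ LinearIndependent K b ∧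
      irr 𝒜 = Ideal.span (Set.range b) ∧
      ∀ (t : ℕ) (g : Fin t → R), (∀ i, g i ∈ irr 𝒜) →
        (∀ x ∈ 𝒜 1, ∃ s, s ∉ irr 𝒜 ∧ s * x ∈ Ideal.span (Set.range g)) → h ≤ t := by
  classical
  let a : HomogeneousIdeal 𝒜 := ⟨irr 𝒜, Ideal.homogeneous_span 𝒜 _ fun y hy => by
    obtain ⟨n, -, hn⟩ := Set.mem_iUnion₂.1 hy
    exact ⟨n, hn⟩⟩
  obtain ⟨S, hS, hspan⟩ := exists_linear_generators (a := a) hstd
  let V : Submodule K R := Submodule.span K (S : Set R)
  haveI : FiniteDimensional K V := FiniteDimensional.span_finset K S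
  have hV1 : ∀ x ∈ V, x ∈ 𝒜 1 := fun x hx => by
    induction hx using Submodule.span_induction with
    | mem z hz => exact hS z hz
    | zero => exact zero_mem _
    | add p q _ _ hp hq => exact add_mem hp hq
    | smul c p _ hp =>
      rw [Algebra.smul_def]
      simpa using SetLike.GradedMul.mul_mem (A := 𝒜) (hK c) hp
  let B := Module.finBasis K V
  refine ⟨Module.finrank K V, fun j => (B j : R), fun j => hV1 _ (B j).2,
    B.linearIndependent.map' V.subtype (Submodule.ker_subtype V), le_antisymm ?_ ?_, ?_⟩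
  · rw [show irr 𝒜 = Ideal.span (S : Set R) from hspan, Ideal.span_le]
    intro x hx
    have hxV : x ∈ V := Submodule.subset_span hx
    have h1 := congrArg Subtype.val (B.sum_repr ⟨x, hxV⟩)
    rw [show ((⟨x, hxV⟩ : V) : R) = x from rfl] at h1
    rw [SetLike.mem_coe, ← h1, Submodule.coe_sum]
    refine Submodule.sum_mem _ fun j _ => ?_
    rw [Submodule.coe_smul, Algebra.smul_def]
    exact Ideal.mul_mem_left _ _ (Ideal.subset_span ⟨j, rfl⟩)
  · rw [Ideal.span_le]
    rintro _ ⟨j, rfl⟩
    exact Ideal.subset_span (Set.mem_biUnion (x := (1 : ℤ)) (show (0 : ℤ) < 1 from one_pos) (hV1 _ (B j).2))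
  · intro t g hg hloc
    let W : Submodule K R := Submodule.span K (Set.range fun i => (decompose 𝒜 (g i) 1 : R))
    have hle : V ≤ W := by
      intro x hx
      obtain ⟨s, hs, hsx⟩ := hloc x (hV1 x hx)
      have h1 := decompose_one_mem hpos (Set.range g) (by rintro _ ⟨i, rfl⟩; exact hg i) W
        (by rintro _ ⟨i, rfl⟩; exact Submodule.subset_span ⟨i, rfl⟩) hK' hsx
      have h2 := coe_decompose_mul_add_of_right_mem 𝒜 (a := s) (i := 0) (hV1 x hx)
      rw [zero_add] at h2
      rw [h2] at h1
      obtain ⟨c, hc⟩ := hK' _ (decompose 𝒜 s 0).2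
      rw [← hc, ← Algebra.smul_def] at h1
      have hc0 : c ≠ 0 := fun h => hs (by
        rw [h, map_zero] at hc
        rw [← sum_support_decompose 𝒜 s]
        refine Ideal.sum_mem _ fun n _ => ?_
        rcases lt_trichotomy n 0 with hn | hn | hn
        · rw [hpos n hn _ (decompose 𝒜 s n).2]; exact zero_mem _
        · subst hn; rw [← hc]; exact zero_mem _
        · exact Ideal.subset_span (Set.mem_biUnion (x := n) hn (decompose 𝒜 s n).2))
      have := W.smul_mem c⁻¹ h1
      rwa [smul_smul, inv_mul_cancel₀ hc0, one_smul] at this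
    haveI : FiniteDimensional K W := FiniteDimensional.span_of_finite K (Set.finite_range _)
    exact (Submodule.finrank_mono hle).trans ((finrank_range_le_card _).trans_eq (Fintype.card_fin t))

variable {h : ℕ} (b : Fin h → R) (hb : ∀ j, b j ∈ 𝒜 1)

include hb hK in
theorem aeval_mem {g : ℤ} {p : MvPolynomial (Fin h) K}
    (hp : p ∈ GrSyz.stdGr K (Fin h) g) : MvPolynomial.aeval b p ∈ 𝒜 g := by
  conv_rhs => rw [p.as_sum]
  rw [map_sum]
  refine sum_mem fun d hd => ?_
  rw [MvPolynomial.aeval_monomial]
  have hw := hp (MvPolynomial.mem_support_iff.1 hd)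
  rw [Finsupp.prod_fintype _ _ fun i => pow_zero _]
  have h1 : ∏ i, b i ^ d i ∈ 𝒜 (∑ i, d i • (1 : ℤ)) :=
    SetLike.prod_pow_mem_graded 𝒜 (fun _ => (1 : ℤ)) b d fun i _ => hb i
  have h2 : ∑ i, d i • (1 : ℤ) = g := by
    rw [← hw, Finsupp.weight_apply, Finsupp.sum_fintype]
    intro i; simp
  rw [h2] at h1
  simpa using SetLike.GradedMul.mul_mem (A := 𝒜) (hK _) h1

include hpos hK' hb in
theorem aeval_surjective (hgen : irr 𝒜 = Ideal.span (Set.range b)) :
    Function.Surjective (MvPolynomial.aeval b : MvPolynomial (Fin h) K →ₐ[K] R) := by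
  classical
  set φ : MvPolynomial (Fin h) K →ₐ[K] R := MvPolynomial.aeval b
  suffices key : ∀ n : ℕ, ∀ x ∈ 𝒜 (n : ℤ), x ∈ φ.range by
    intro x
    show x ∈ φ.range
    rw [← sum_support_decompose 𝒜 x]
    refine Subalgebra.sum_mem _ fun n _ => ?_
    rcases lt_or_ge n 0 with hn | hn
    · rw [hpos n hn _ (decompose 𝒜 x n).2]; exact zero_mem _
    · exact key n.toNat _ (by rw [Int.toNat_of_nonneg hn]; exact (decompose 𝒜 x n).2)
  intro n
  induction n with
  | zero =>
    intro x hx
    obtain ⟨c, rfl⟩ := hK' x (by simpa using hx)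
    exact Subalgebra.algebraMap_mem _ c
  | succ n ih =>
    intro x hx
    have hxI : x ∈ irr 𝒜 := Ideal.subset_span (Set.mem_biUnion (x := ((n + 1 : ℕ) : ℤ))
      (show (0 : ℤ) < ((n + 1 : ℕ) : ℤ) by omega) hx)
    rw [hgen] at hxI
    suffices h' : ∀ y ∈ Ideal.span (Set.range b), ∀ c : R,
        (decompose 𝒜 (c * y) ((n : ℤ) + 1) : R) ∈ φ.range by
      have := h' x hxI 1
      rwa [one_mul, decompose_of_mem_same 𝒜 (by push_cast at hx; exact hx)] at this
    intro y hy
    induction hy using Submodule.span_induction with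
    | mem z hz =>
      obtain ⟨j, rfl⟩ := hz
      intro c
      rw [coe_decompose_mul_add_of_right_mem 𝒜 (hb j)]
      exact mul_mem (ih _ (decompose 𝒜 c _).2) ⟨MvPolynomial.X j, MvPolynomial.aeval_X b j⟩
    | zero => intro c; simp
    | add p q _ _ hp hq =>
      intro c
      rw [mul_add, decompose_add, DirectSum.add_apply, AddSubgroup.coe_add]
      exact add_mem (hp c) (hq c)
    | smul r p _ hp => intro c; rw [smul_eq_mul, ← mul_assoc]; exact hp _

/-- A form of degree one in the kernel vanishes. -/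
theorem aeval_inj_one (hli : LinearIndependent K b) {p : MvPolynomial (Fin h) K}
    (hp : p ∈ GrSyz.stdGr K (Fin h) 1) (h0 : MvPolynomial.aeval b p = 0) : p = 0 := by
  classical
  have hsum : p = ∑ j, MvPolynomial.C (MvPolynomial.coeff (Finsupp.single j 1) p) * MvPolynomial.X j := by
    ext m
    rw [MvPolynomial.coeff_sum]
    by_cases hm : ∃ j, m = Finsupp.single j 1
    · obtain ⟨j, rfl⟩ := hm
      rw [Finset.sum_eq_single j]
      · simp
      · intro i _ hij
        rw [MvPolynomial.coeff_C_mul, MvPolynomial.coeff_X', if_neg]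
        · simp
        · exact fun e => hij ((Finsupp.single_left_injective one_ne_zero) e)
      · simp
    · push Not at hm
      rw [Finset.sum_eq_zero fun i _ => by
        rw [MvPolynomial.coeff_C_mul, MvPolynomial.coeff_X', if_neg (fun e => hm i e.symm), mul_zero]]
      by_contra hne
      have hw := hp hne
      rw [Finsupp.weight_apply, Finsupp.sum_fintype _ _ fun i => by simp] at hw
      simp only [nsmul_eq_mul, mul_one] at hw
      obtain ⟨j, hj⟩ : ∃ j, m j ≠ 0 := by
        by_contra! h'
        simp [h'] at hw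
      refine hm j (Finsupp.ext fun i => ?_)
      have hnat : ∑ i, m i = 1 := by exact_mod_cast hw
      rw [← Finset.add_sum_erase _ _ (Finset.mem_univ j)] at hnat
      rcases eq_or_ne i j with rfl | hij
      · rw [Finsupp.single_eq_same]; omega
      · rw [Finsupp.single_eq_of_ne hij]
        exact Finset.sum_eq_zero_iff.1 (show ∑ i ∈ Finset.univ.erase j, m i = 0 by omega) i
          (Finset.mem_erase.2 ⟨hij, Finset.mem_univ i⟩)
  rw [hsum, map_sum] at h0
  simp only [map_mul, MvPolynomial.aeval_C, MvPolynomial.aeval_X, ← Algebra.smul_def] at h0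
  have := Fintype.linearIndependent_iff.1 hli _ h0
  rw [hsum]
  simp [this]

end Groth.Agent.GrFieldLib.Std
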