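import Mathlib
import Groth.Agent.GrFieldLib.StdPoly

/-! A standard graded Cohen–Macaulay algebra with the smallest a-invariant is a polynomial ring. -/

set_option autoImplicit false
set_option linter.style.haveILetI false
set_option linter.unusedSectionVars false
set_option linter.overlappingInstances false
universe u

open DirectSum RingTheory.Sequence GrInjLib

namespace Groth.Agent.GrFieldLib.Std

variable {K R : Type u} [Field K] [CommRing R] [IsNoetherianRing R] [Algebra K R]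
  {𝒜 : ℤ → AddSubgroup R} [GradedRing 𝒜] {m : HomogeneousIdeal 𝒜}
  (hpos : ∀ n : ℤ, n < 0 → ∀ x ∈ 𝒜 n, x = 0) (hK : ∀ c : K, algebraMap K R c ∈ 𝒜 0)
  (hK' : ∀ x ∈ 𝒜 0, ∃ c : K, algebraMap K R c = x) (hm : m.toIdeal = irr 𝒜)
  {n : ℕ} (hn : ringKrullDim R = n) (hvan : ∀ i, i < n → ∀ g, Van m (ringG (𝒜 := 𝒜)) i g)

include hpos hK hK' hm hn hvan in
/-- The presentation has no kernel. -/
theorem aeval_injective {h : ℕ} (b : Fin (h + 1) → R) (hb : ∀ j, b j ∈ 𝒜 1)
    (hli : LinearIndependent K b) (hgen : irr 𝒜 = Ideal.span (Set.range b)) (L : List (R × ℤ))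
    (hL : ∀ p ∈ L, p.1 ∈ 𝒜 p.2 ∧ 0 < p.2) (hlen : L.length = n)
    (hwr : IsWeaklyRegular R (L.map Prod.fst))
    (hrad : irr 𝒜 ≤ (Ideal.ofList (L.map Prod.fst)).radical)
    (htop : ∀ g, -(n : ℤ) < g → Van m (ringG (𝒜 := 𝒜)) n g) :
    Function.Injective (MvPolynomial.aeval b : MvPolynomial (Fin (h + 1)) K →ₐ[K] R) := by
  classical
  set φ : (MvPolynomial (Fin (h + 1)) K) →ₐ[K] R := MvPolynomial.aeval b
  have hφg : ∀ g : ℤ, ∀ p ∈ GrSyz.stdGr K (Fin (h + 1)) g, φ p ∈ 𝒜 g :=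
    fun g p hp => aeval_mem hK b hb hp
  have hφs : Function.Surjective φ := aeval_surjective hpos hK' b hb hgen
  letI : Algebra (MvPolynomial (Fin (h + 1)) K) R := φ.toRingHom.toAlgebra
  haveI : SetLike.GradedSMul (GrSyz.stdGr K (Fin (h + 1))) 𝒜 :=
    ⟨fun {i j r x} hr hx => (SetLike.GradedMul.mul_mem (A := 𝒜) (hφg i r hr) hx : φ r * x ∈ 𝒜 (i + j))⟩
  let M : GrLC.GMod.{u} (GrSyz.stdGr K (Fin (h + 1))) := GrLC.GMod.of (GrSyz.stdGr K (Fin (h + 1))) R 𝒜
  let a := GrSyz.irrel (GrSyz.stdGr K (Fin (h + 1)))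
  haveI : Module.Finite (MvPolynomial (Fin (h + 1)) K) M.carrier :=
    Module.Finite.of_surjective (Algebra.linearMap (MvPolynomial (Fin (h + 1)) K) R) hφs
  have hmap : a.toIdeal.map (algebraMap (MvPolynomial (Fin (h + 1)) K) R) = m.toIdeal := by
    rw [GrInjLib.Poly.irrel_eq_X, Ideal.map_span, hm, hgen, Set.image_univ, ← Set.range_comp]
    congr 1
    exact congrArg Set.range (funext fun j => MvPolynomial.aeval_X b j)
  have hind : ∀ i, (∀ g, Van m (ringG (𝒜 := 𝒜)) i g) → ∀ g, Van a M i g := by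
    intro i hi g E
    obtain ⟨E₁⟩ := exists_starInjRes 𝒜 (ringG (𝒜 := 𝒜)).gr
    obtain ⟨e₁⟩ := exists_H_equiv_locCoh E₁ m i
    obtain ⟨e₂⟩ := exists_H_equiv_locCoh E a i
    haveI : Subsingleton (E₁.H m i) := by
      refine ⟨fun x y => ?_⟩
      suffices hz : ∀ z : E₁.H m i, z = 0 by rw [hz x, hz y]
      intro z
      letI := (H_isInternal E₁ m i).chooseDecomposition
      rw [← sum_support_decompose (E₁.Hgr m i) z]
      refine Finset.sum_eq_zero fun g' _ => ?_
      have hmem : (decompose (E₁.Hgr m i) z g' : E₁.H m i) ∈ E₁.Hcomp m i g' :=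
        (decompose (E₁.Hgr m i) z g').2
      rwa [hi g' E₁, Submodule.mem_bot] at hmem
    have h1 : Subsingleton ((localCohomology m.toIdeal i).obj (ModuleCat.of R R) : Type u) :=
      e₁.symm.toEquiv.subsingleton
    obtain ⟨ψ, -⟩ := Groth.Agent.LocCohLib.exists_indep (R' := R) a.toIdeal R i
    rw [hmap] at ψ
    haveI : Subsingleton ((localCohomology a.toIdeal i).obj (ModuleCat.of (MvPolynomial (Fin (h + 1)) K) M.carrier) : Type u) :=
      ψ.symm.toEquiv.subsingleton
    haveI : Subsingleton (E.H a i) := e₂.toEquiv.subsingleton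
    exact (Submodule.eq_bot_iff _).2 fun y _ => Subsingleton.elim y 0
  -- lift the regular sequence
  have hlift : ∀ p ∈ L, ∃ s ∈ GrSyz.stdGr K (Fin (h + 1)) p.2, φ s = p.1 := fun p hp => by
    obtain ⟨s, hs, hse⟩ := exists_preimage_piece (ringG (𝒜 := GrSyz.stdGr K (Fin (h + 1)))).gr M.gr
      (f := Algebra.linearMap (MvPolynomial (Fin (h + 1)) K) R) (d := 0) (fun g z hz => by rw [add_zero]; exact hφg g z hz)
      (g := p.2) (y := p.1) (by rw [add_zero]; exact (hL p hp).1) (hφs p.1)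
    exact ⟨s, hs, hse⟩
  let L' : List ((MvPolynomial (Fin (h + 1)) K) × ℤ) := L.attach.map fun p => ((hlift p.1 p.2).choose, p.1.2)
  have hL' : ∀ p ∈ L', p.1 ∈ GrSyz.stdGr K (Fin (h + 1)) p.2 ∧ 0 < p.2 := fun p hp => by
    obtain ⟨q, -, rfl⟩ := List.mem_map.1 hp
    exact ⟨(hlift q.1 q.2).choose_spec.1, (hL q.1 q.2).2⟩
  have hmapL : (L'.map Prod.fst).map (algebraMap (MvPolynomial (Fin (h + 1)) K) R) = L.map Prod.fst := by
    rw [List.map_map, List.map_map]
    conv_rhs => rw [← List.attach_map_subtype_val (l := L), List.map_map]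
    exact List.map_congr_left fun q _ => (hlift q.1 q.2).choose_spec.2
  have hsum : (L'.map Prod.snd).sum = (L.map Prod.snd).sum := by
    rw [List.map_map]
    conv_rhs => rw [← List.attach_map_subtype_val (l := L), List.map_map]
    rfl
  have hlen' : L'.length = n := by simp [L', hlen]
  set J := Ideal.ofList (L.map Prod.fst) with hJdef
  have hJh : J.IsHomogeneous 𝒜 := Ideal.homogeneous_span 𝒜 _ fun y hy => by
    obtain ⟨p, hp, rfl⟩ := List.mem_map.1 hy
    exact ⟨p.2, (hL p hp).1⟩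
  obtain ⟨e, he⟩ := Ideal.exists_pow_le_of_le_radical_of_fg hrad (IsNoetherian.noetherian _)
  -- read off the vanishing over `R`
  let N := quotG 𝒜 (ringPieces 𝒜) (ideal_homogeneous 𝒜 hJh)
  haveI : Module.Finite R (ringG (𝒜 := 𝒜)).carrier := inferInstanceAs (Module.Finite R R)
  have htor : GrLC.gam m.toIdeal N.carrier = ⊤ := by
    rw [eq_top_iff]
    intro y _
    obtain ⟨z, rfl⟩ := quotMk_surjective 𝒜 (ringPieces 𝒜) (ideal_homogeneous 𝒜 hJh) y
    refine ⟨e, fun t ht => ?_⟩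
    rw [← map_smul, ← LinearMap.mem_ker, ker_quotMk]
    exact Ideal.mul_mem_right _ _ (he (hm ▸ ht))
  have hker₀ : LinearMap.ker (quotMk 𝒜 (ringPieces 𝒜) (ideal_homogeneous 𝒜 hJh)) =
      Ideal.ofList (L.map Prod.fst) • (⊤ : Submodule R R) := by
    rw [ker_quotMk, smul_eq_mul, Ideal.mul_top]
  have hdeg : ∀ g, -(n : ℤ) + (L.map Prod.snd).sum < g → ∀ x ∈ 𝒜 g, x ∈ J := by
    have h1 := (van_end_seq hpos hm L hL (ringG (𝒜 := 𝒜)) N
      (quotMk 𝒜 (ringPieces 𝒜) (ideal_homogeneous 𝒜 hJh)) hwr (quotMk_surjective 𝒜 (ringPieces 𝒜) (ideal_homogeneous 𝒜 hJh))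
      (quotMk_grHom 𝒜 (ringPieces 𝒜) (ideal_homogeneous 𝒜 hJh)) hker₀ (by rw [hlen]; exact hvan) htor (-(n : ℤ))).1
      (by rw [hlen]; exact htop)
    intro g hg x hx
    have h2 := h1 g hg x hx
    exact (ker_quotMk 𝒜 (ringPieces 𝒜) (ideal_homogeneous 𝒜 hJh)).le (LinearMap.mem_ker.2 h2)
  -- regularity over the polynomial ring
  have hP : (J.restrictScalars (MvPolynomial (Fin (h + 1)) K)).IsHomogeneous 𝒜 := fun g x hx => hJh g hx
  let N' := quotG (GrSyz.stdGr K (Fin (h + 1))) 𝒜 hP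
  have hker' : LinearMap.ker (quotMk (GrSyz.stdGr K (Fin (h + 1))) 𝒜 hP) =
      Ideal.ofList (L'.map Prod.fst) • (⊤ : Submodule (MvPolynomial (Fin (h + 1)) K) R) := by
    rw [ker_quotMk, Ideal.smul_top_eq_map, Ideal.map_ofList, hmapL]
  have htor' : GrLC.gam a.toIdeal N'.carrier = ⊤ := by
    rw [eq_top_iff]
    intro y _
    obtain ⟨z, rfl⟩ := quotMk_surjective (GrSyz.stdGr K (Fin (h + 1))) 𝒜 hP y
    refine ⟨e, fun t ht => ?_⟩
    rw [← map_smul, ← LinearMap.mem_ker, ker_quotMk]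
    show φ t * (z : R) ∈ J
    refine Ideal.mul_mem_right _ _ (he ?_)
    rw [← hm, ← hmap, ← Ideal.map_pow]
    exact Ideal.mem_map_of_mem _ ht
  have hwr' : IsWeaklyRegular R (L'.map Prod.fst) :=
    (isWeaklyRegular_map_algebraMap_iff R R (L'.map Prod.fst)).1 (by rw [hmapL]; exact hwr)
  have hreg : IsReg a M 0 := by
    intro i g hg
    rcases lt_trichotomy i n with hi | hi | hi
    · exact hind i (hvan i hi) g
    · subst hi
      have h1 := (van_end_seq (𝒜 := GrSyz.stdGr K (Fin (h + 1))) (m := a) GrInjLib.Poly.hpos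
        GrInjLib.Poly.ha L' hL' M N' (quotMk (GrSyz.stdGr K (Fin (h + 1))) 𝒜 hP)
        hwr'
        (quotMk_surjective (GrSyz.stdGr K (Fin (h + 1))) 𝒜 hP) (quotMk_grHom (GrSyz.stdGr K (Fin (h + 1))) 𝒜 hP) hker'
        (fun j hj => hind j (hvan j (hlen' ▸ hj))) htor' (-(i : ℤ))).2 (fun g' hg' x hx => by
          rw [hsum] at hg'
          have h9 : (x : R) ∈ LinearMap.ker (quotMk (GrSyz.stdGr K (Fin (h + 1))) 𝒜 hP) :=
            (ker_quotMk (GrSyz.stdGr K (Fin (h + 1))) 𝒜 hP).ge (hdeg g' hg' x hx)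
          exact h9)
      rw [hlen'] at h1
      exact h1 g (by omega)
    · exact hind i (fun g' => van_above_dim hn _ i hi g') g
  -- the kernel is generated in degree at most one, where it vanishes
  let π : (freeG (𝒜 := GrSyz.stdGr K (Fin (h + 1))) (fun _ : Fin 1 => (0 : ℤ))).carrier →ₗ[(MvPolynomial (Fin (h + 1)) K)] M.carrier :=
    (Algebra.linearMap (MvPolynomial (Fin (h + 1)) K) R).comp (LinearMap.proj 0)
  have hπ : GrLC.IsGrHom (freeG (𝒜 := GrSyz.stdGr K (Fin (h + 1))) (fun _ : Fin 1 => (0 : ℤ))).gr M.gr π :=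
    fun g v hv => hφg g (v 0) (by simpa using hv 0)
  have hπs : Function.Surjective π := fun y => by
    obtain ⟨s, hs⟩ := hφs y
    exact ⟨fun _ => s, hs⟩
  have hKh : (LinearMap.ker π).IsHomogeneous
      (freeG (𝒜 := GrSyz.stdGr K (Fin (h + 1))) (fun _ : Fin 1 => (0 : ℤ))).gr :=
    ker_homogeneous _ _ ((isGrHom_iff _ _).1 hπ)
  have hKreg := isReg_ker hπ hπs GrInjLib.Poly.isReg_ring hKh hreg (fun _ => le_rfl)
  let X := subG (GrSyz.stdGr K (Fin (h + 1)))
    (freeG (𝒜 := GrSyz.stdGr K (Fin (h + 1))) (fun _ : Fin 1 => (0 : ℤ))).gr hKh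
  haveI : Module.Finite (MvPolynomial (Fin (h + 1)) K) X.carrier := Module.Finite.iff_fg.2 (IsNoetherian.noetherian _)
  have hbot : (⊥ : Submodule (MvPolynomial (Fin (h + 1)) K) X.carrier) = ⊤ :=
    mem_of_generated (a := a) GrInjLib.Poly.hpos GrInjLib.Poly.hhom X ⊥ fun g => by
      by_cases hg : g ≤ 1
      · refine Or.inl fun v hv => ?_
        have hv0 : (v.1 : Fin 1 → (MvPolynomial (Fin (h + 1)) K)) 0 ∈ GrSyz.stdGr K (Fin (h + 1)) g := by
          have := hv (0 : Fin 1)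
          simpa using this
        have hvk : φ ((v.1 : Fin 1 → (MvPolynomial (Fin (h + 1)) K)) 0) = 0 := LinearMap.mem_ker.1 v.2
        have hzero : (v.1 : Fin 1 → (MvPolynomial (Fin (h + 1)) K)) 0 = 0 := by
          rcases eq_or_lt_of_le hg with rfl | hg'
          · exact aeval_inj_one b hli hv0 hvk
          · rcases eq_or_lt_of_le (show g ≤ 0 by omega) with rfl | hg''
            · set q := (v.1 : Fin 1 → (MvPolynomial (Fin (h + 1)) K)) 0
              have hq : q = MvPolynomial.C (MvPolynomial.coeff 0 q) := by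
                ext d
                rw [MvPolynomial.coeff_C]
                split_ifs with hd
                · rw [← hd]
                · by_contra hne
                  have hw := hv0 hne
                  rw [Finsupp.weight_apply, Finsupp.sum_fintype _ _ fun i => by simp] at hw
                  simp only [nsmul_eq_mul, mul_one] at hw
                  have hnat : ∑ i, d i = 0 := by exact_mod_cast hw
                  exact hd (Finsupp.ext fun i => ((Finset.sum_eq_zero_iff.1 hnat) i (Finset.mem_univ i)).symm)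
              rw [hq, MvPolynomial.aeval_C] at hvk
              haveI : Nontrivial R := ⟨b 0, 0, hli.ne_zero 0⟩
              rw [hq, (algebraMap K R).injective (hvk.trans (map_zero _).symm), map_zero]
            · exact GrInjLib.Poly.hpos g hg'' _ hv0
        refine (Submodule.mem_bot (MvPolynomial (Fin (h + 1)) K)).2 (Subtype.ext (funext fun j => ?_))
        rw [Subsingleton.elim j 0]
        exact hzero
      · exact Or.inr ⟨hKreg 0 g (by omega), fun j => hKreg (1 + j) _ (by omega)⟩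
  rw [injective_iff_map_eq_zero]
  intro p hp
  have h1 : (⟨fun _ => p, LinearMap.mem_ker.2 hp⟩ : X.carrier) = 0 :=
    (Submodule.mem_bot (MvPolynomial (Fin (h + 1)) K)).1 (hbot.ge Submodule.mem_top)
  exact congrFun (congrArg Subtype.val h1) 0

end Groth.Agent.GrFieldLib.Std

namespace Groth.Agent.GrFieldLib.Std

variable {K R : Type u} [Field K] [CommRing R] [IsNoetherianRing R] [Algebra K R]
  {𝒜 : ℤ → AddSubgroup R} [GradedRing 𝒜] {m : HomogeneousIdeal 𝒜}
  (hpos : ∀ n : ℤ, n < 0 → ∀ x ∈ 𝒜 n, x = 0) (hK : ∀ c : K, algebraMap K R c ∈ 𝒜 0)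
  (hm : m.toIdeal = irr 𝒜)

include hpos hK hm in
/-- The top local cohomology of a polynomial ring. -/
theorem van_top_iff_of_bijective [Nontrivial R] {h : ℕ} (b : Fin h → R) (hb : ∀ j, b j ∈ 𝒜 1)
    (hgen : irr 𝒜 = Ideal.span (Set.range b))
    (hbij : Function.Bijective (MvPolynomial.aeval b : MvPolynomial (Fin h) K →ₐ[K] R))
    (hvan : ∀ i, i < h → ∀ g, Van m (ringG (𝒜 := 𝒜)) i g) (d : ℤ) :
    (∀ g, d < g → Van m (ringG (𝒜 := 𝒜)) h g) ↔ -(h : ℤ) ≤ d := by
  classical
  let L : List (R × ℤ) := List.ofFn fun j => (b j, (1 : ℤ))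
  have hL : ∀ p ∈ L, p.1 ∈ 𝒜 p.2 ∧ 0 < p.2 := fun p hp => by
    obtain ⟨j, rfl⟩ := List.mem_ofFn.1 hp
    exact ⟨hb j, show (0 : ℤ) < 1 from one_pos⟩
  have hL1 : L.map Prod.fst = List.ofFn b := by simp [L, Function.comp_def]
  have hsum : (L.map Prod.snd).sum = (h : ℤ) := by simp [L, List.sum_ofFn, Function.comp_def]
  have hlen : L.length = h := by simp [L]
  have hwr : IsWeaklyRegular R (L.map Prod.fst) := by
    rw [hL1]
    cases h with
    | zero => simp [IsWeaklyRegular.nil]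
    | succ h =>
      letI : Algebra (MvPolynomial (Fin (h + 1)) K) R := (MvPolynomial.aeval b).toRingHom.toAlgebra
      let e : MvPolynomial (Fin (h + 1)) K ≃ₗ[MvPolynomial (Fin (h + 1)) K] R :=
        LinearEquiv.ofBijective (Algebra.linearMap (MvPolynomial (Fin (h + 1)) K) R) hbij
      have h1 := (LinearEquiv.isWeaklyRegular_congr e _).1
        (GrInjLib.Poly.isWeaklyRegular_X (k := K) (r := h))
      have h2 := (isWeaklyRegular_map_algebraMap_iff R R _).2 h1
      rw [List.map_ofFn] at h2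
      convert h2 using 3
      exact funext fun j => (MvPolynomial.aeval_X (R := K) b j).symm
  set J := Ideal.ofList (L.map Prod.fst) with hJdef
  have hJm : J = irr 𝒜 := by
    rw [hJdef, hL1, hgen, Ideal.ofList]
    congr 1
    ext y
    simp [List.mem_ofFn]
  have hJh : J.IsHomogeneous 𝒜 := by rw [hJm, ← hm]; exact m.isHomogeneous
  let N := quotG 𝒜 (ringPieces 𝒜) (ideal_homogeneous 𝒜 hJh)
  haveI : Module.Finite R (ringG (𝒜 := 𝒜)).carrier := inferInstanceAs (Module.Finite R R)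
  have htor : GrLC.gam m.toIdeal N.carrier = ⊤ := by
    rw [eq_top_iff]
    intro y _
    obtain ⟨z, rfl⟩ := quotMk_surjective 𝒜 (ringPieces 𝒜) (ideal_homogeneous 𝒜 hJh) y
    refine ⟨1, fun t ht => ?_⟩
    rw [← map_smul, ← LinearMap.mem_ker, ker_quotMk, hJm]
    exact Ideal.mul_mem_right _ _ (hm ▸ (by simpa using ht))
  have hker₀ : LinearMap.ker (quotMk 𝒜 (ringPieces 𝒜) (ideal_homogeneous 𝒜 hJh)) =
      Ideal.ofList (L.map Prod.fst) • (⊤ : Submodule R R) := by
    rw [ker_quotMk, smul_eq_mul, Ideal.mul_top]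
  have h1 := van_end_seq hpos hm L hL (ringG (𝒜 := 𝒜)) N
    (quotMk 𝒜 (ringPieces 𝒜) (ideal_homogeneous 𝒜 hJh)) hwr
    (quotMk_surjective 𝒜 (ringPieces 𝒜) (ideal_homogeneous 𝒜 hJh))
    (quotMk_grHom 𝒜 (ringPieces 𝒜) (ideal_homogeneous 𝒜 hJh))
    hker₀ (by rw [hlen]; exact hvan) htor d
  rw [hlen, hsum] at h1
  rw [h1]
  constructor
  · intro hall
    by_contra hlt
    have h2 : (1 : R) ∈ LinearMap.ker (quotMk 𝒜 (ringPieces 𝒜) (ideal_homogeneous 𝒜 hJh)) :=
      hall 0 (by omega) (1 : R) (SetLike.one_mem_graded 𝒜)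
    rw [ker_quotMk, hJm] at h2
    have h3 := decompose_irr_zero hpos h2
    rw [decompose_of_mem_same 𝒜 (SetLike.one_mem_graded 𝒜)] at h3
    exact one_ne_zero h3
  · intro hle g hg x hx
    have h2 : (x : R) ∈ LinearMap.ker (quotMk 𝒜 (ringPieces 𝒜) (ideal_homogeneous 𝒜 hJh)) := by
      rw [ker_quotMk, hJm]
      exact Ideal.subset_span (Set.mem_biUnion (x := g) (show (0 : ℤ) < g by omega) hx)
    exact h2

/-- A surjection from a polynomial ring onto a ring of the same dimension is injective. -/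
theorem aeval_injective_of_dim {h : ℕ} (b : Fin h → R)
    (hs : Function.Surjective (MvPolynomial.aeval b : MvPolynomial (Fin h) K →ₐ[K] R))
    (hd : ringKrullDim R = h) :
    Function.Injective (MvPolynomial.aeval b : MvPolynomial (Fin h) K →ₐ[K] R) := by
  rw [injective_iff_map_eq_zero]
  intro x hx
  by_contra hx0
  have h1 := ringKrullDim_quotient_succ_le_of_nonZeroDivisor (mem_nonZeroDivisors_of_ne_zero hx0)
  rw [MvPolynomial.ringKrullDim_of_isNoetherianRing, ringKrullDim_eq_zero_of_field,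
    zero_add] at h1
  let f := Ideal.Quotient.lift (Ideal.span {x}) (MvPolynomial.aeval b).toRingHom (fun y hy => by
    obtain ⟨c, rfl⟩ := Ideal.mem_span_singleton'.1 hy
    show MvPolynomial.aeval b (c * x) = 0
    rw [map_mul, hx, mul_zero])
  have h2 : (h : WithBot ℕ∞) ≤ ringKrullDim (MvPolynomial (Fin h) K ⧸ Ideal.span {x}) :=
    hd ▸ ringKrullDim_le_of_surjective f (Ideal.Quotient.lift_surjective_of_surjective _ _ hs)
  have h3 : ((h : WithBot ℕ∞) + 1) ≤ ((h : ℕ) : WithBot ℕ∞) :=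
    le_trans (add_le_add_left h2 1) (by simpa using h1)
  have h4 : (((h + 1 : ℕ)) : WithBot ℕ∞) ≤ ((h : ℕ) : WithBot ℕ∞) := by push_cast; exact h3
  have h5 : h + 1 ≤ h := by exact_mod_cast h4
  omega

end Groth.Agent.GrFieldLib.Std
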