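import Mathlib
import Groth.Agent.GrFieldLib.Dual

/-! Regular elements act on a canonical module without torsion. -/

set_option autoImplicit false
set_option linter.style.haveILetI false
set_option linter.unusedSectionVars false
set_option linter.overlappingInstances false
universe u

open DirectSum GrInjLib
open scoped Pointwise nonZeroDivisors

namespace Groth.Agent.GrFieldLib.Dual

/-- Dividing by a regular element of a quotient lowers the dimension. -/
theorem dim_quot_sup_le {R : Type u} [CommRing R] {J : Ideal R} {x : R} {n : ℕ}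
    (hd : ringKrullDim (R ⧸ J) ≤ (n + 1 : ℕ)) (hxJ : ∀ z : R, x * z ∈ J → z ∈ J) :
    ringKrullDim (R ⧸ (J ⊔ Ideal.span {x})) ≤ n := by
  have hnz : Ideal.Quotient.mk J x ∈ (R ⧸ J)⁰ := by
    refine mem_nonZeroDivisors_iff_right.2 fun z hz => ?_
    obtain ⟨z, rfl⟩ := Ideal.Quotient.mk_surjective z
    rw [← map_mul, Ideal.Quotient.eq_zero_iff_mem, mul_comm] at hz
    exact Ideal.Quotient.eq_zero_iff_mem.2 (hxJ z hz)
  have h1 := (ringKrullDim_quotient_succ_le_of_nonZeroDivisor hnz).trans hd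
  have h2 : ringKrullDim (R ⧸ (J ⊔ Ideal.span {x})) =
      ringKrullDim ((R ⧸ J) ⧸ Ideal.span {Ideal.Quotient.mk J x}) := by
    rw [← Set.image_singleton, ← Ideal.map_span]
    exact (ringKrullDim_eq_of_ringEquiv (DoubleQuot.quotQuotEquivQuotSup J _)).symm
  rw [h2]
  push_cast at h1
  exact (ENat.WithBot.add_le_add_one_right_iff).1 h1

variable {R : Type u} [CommRing R] [IsNoetherianRing R] {𝒜 : ℤ → AddSubgroup R} [GradedRing 𝒜]
  {m : HomogeneousIdeal 𝒜}

/-- Local cohomology all of whose pieces vanish is zero. -/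
theorem subsingleton_H_of_van {X : GrLC.GMod.{u} 𝒜} (E : GrLC.StarInjRes 𝒜 X.gr) {i : ℕ}
    (h : ∀ g, Van m X i g) : Subsingleton (E.H m i) := by
  classical
  refine ⟨fun x y => ?_⟩
  suffices hz : ∀ z : E.H m i, z = 0 by rw [hz x, hz y]
  intro z
  letI := (H_isInternal E m i).chooseDecomposition
  rw [← sum_support_decompose (E.Hgr m i) z]
  refine Finset.sum_eq_zero fun g' _ => ?_
  have hmem : (decompose (E.Hgr m i) z g' : E.H m i) ∈ E.Hcomp m i g' :=
    (decompose (E.Hgr m i) z g').2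
  rwa [h g' E, Submodule.mem_bot] at hmem

/-- Vanishing above the dimension of a quotient ring. -/
theorem van_quot_above {J : Ideal R} (hJ : J.IsHomogeneous 𝒜) {t : ℕ}
    (hd : ringKrullDim (R ⧸ J) ≤ t) (i : ℕ) (hi : t < i) (g : ℤ) :
    Van m (quotG 𝒜 (ringPieces 𝒜) (ideal_homogeneous 𝒜 hJ)) i g := fun E => by
  haveI : Subsingleton ((localCohomology (m.toIdeal.map (algebraMap R (R ⧸ J))) i).obj
      (ModuleCat.of (R ⧸ J) (R ⧸ J)) : Type u) :=
    LocCohLib.cdLE_of_ringKrullDim _ t hd (R ⧸ J) i hi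
  obtain ⟨ψ, -⟩ := LocCohLib.exists_indep (R' := R ⧸ J) m.toIdeal (R ⧸ J) i
  haveI : Subsingleton ((localCohomology m.toIdeal i).obj (ModuleCat.of R
      (quotG 𝒜 (ringPieces 𝒜) (ideal_homogeneous 𝒜 hJ)).carrier) : Type u) :=
    ψ.symm.toEquiv.subsingleton
  obtain ⟨e⟩ := exists_H_equiv_locCoh E m i
  haveI : Subsingleton (E.H m i) := e.toEquiv.subsingleton
  exact (Submodule.eq_bot_iff _).2 fun y _ => Subsingleton.elim y 0

/-- Multiplication by a regular element is surjective on local cohomology when the quotient has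
none, and its kernel is the image of the connecting map. -/
theorem exists_delta_smul {M N : GrLC.GMod.{u} 𝒜} {x : R} {D : ℤ} (hx : x ∈ 𝒜 D)
    (hreg : IsSMulRegular M.carrier x) {π : M.carrier →ₗ[R] N.carrier} (hπ : Function.Surjective π)
    (hπg : GrLC.IsGrHom M.gr N.gr π)
    (hker : LinearMap.ker π = LinearMap.range (x • (LinearMap.id : M.carrier →ₗ[R] M.carrier)))
    (EM : GrLC.StarInjRes 𝒜 M.gr) (EN : GrLC.StarInjRes 𝒜 N.gr) :
    ∃ δ : ∀ i, EN.H m i →ₗ[R] EM.H m (i + 1),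
      (∀ i, (∀ g, Van m N i g) → ∀ w : EM.H m i, ∃ u, x • u = w) ∧
      (∀ i (w : EM.H m (i + 1)), x • w = 0 ↔ ∃ u, δ i u = w) := by
  have hf : GrLC.IsGrHomDeg M.gr M.gr (x • (LinearMap.id : M.carrier →ₗ[R] M.carrier)) D :=
    fun b z hz => by
      show x • z ∈ M.gr (b + D)
      rw [add_comm]
      exact smul_mem 𝒜 M.gr hx hz
  let L : Lift EM EM (x • (LinearMap.id : M.carrier →ₗ[R] M.carrier)) D :=
    { ψ := fun i => x • LinearMap.id
      deg := fun i b z hz => by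
        show x • z ∈ (EM.X i).gr (b + D)
        rw [add_comm]
        exact smul_mem 𝒜 (EM.X i).gr hx hz
      comm0 := LinearMap.ext fun z => (map_smul EM.ε x z).symm
      comm := fun i => LinearMap.ext fun z => (map_smul (EM.d i) x z).symm }
  have hL : ∀ i y, L.mapH m i y = x • y := fun i y => by
    obtain ⟨z, rfl⟩ := Submodule.mkQ_surjective _ y
    rw [← map_smul]
    exact congrArg (EM.toH m i) (Subtype.ext rfl)
  obtain ⟨Lg⟩ := exists_lift EM EN ((isGrHom_iff _ _).1 hπg)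
  obtain ⟨-, δ, -, hB, -, hA⟩ := exists_long_exact L Lg m hf hπg hreg
    (fun b => by rw [← LinearMap.mem_ker, hker]; exact LinearMap.mem_range) hπ
  refine ⟨δ, fun i hi w => ?_, fun i w => ?_⟩
  · haveI := subsingleton_H_of_van EN hi
    obtain ⟨u, hu⟩ := (hB i).le (LinearMap.mem_ker.2 (Subsingleton.elim (Lg.mapH m i w) 0))
    exact ⟨u, (hL i u).symm.trans hu⟩
  · rw [← hL, ← LinearMap.mem_ker, hA, LinearMap.mem_range]

section Pieces

variable {E' : Type u} [AddCommGroup E'] [Module R E'] {𝓔 : ℤ → AddSubgroup E'} [Decomposition 𝓔]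
  [SetLike.GradedSMul 𝒜 𝓔] {C : Type u} [AddCommGroup C] [Module R C] {𝒞 : ℤ → AddSubgroup C}
  [Decomposition 𝒞] [SetLike.GradedSMul 𝒜 𝒞] {e : (R ⧸ m.toIdeal) →ₗ[R] E'}
  (hpos : ∀ n : ℤ, n < 0 → 𝒜 n = ⊥) (h0 : IsField (GrLC.deg0 𝒜))
  (hmsp : m.toIdeal = irr 𝒜) (he : GrLC.IsStarInjHull 𝒜 (GrLC.quotGr 𝒜 m) 𝓔 e)
  {H : Type u} [AddCommGroup H] [Module R H] (φ : (C →ₗ[R] E') ≃ₗ[R] H)

variable (𝒞) in
include hpos h0 hmsp he φ 𝒞 in
/-- If `x` is surjective on the dual then it is injective. -/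
theorem smul_injective {x : R} (hsur : ∀ w : H, ∃ u, x • u = w) : IsSMulRegular C x := by
  classical
  refine (isSMulRegular_iff_right_eq_zero_of_smul).2 fun z hz => ?_
  by_contra hne
  obtain ⟨j, hj⟩ := exists_proj_ne 𝒞 z hne
  obtain ⟨h, hh, hhne, -⟩ := exists_functional hpos h0 hmsp he (C := C) (𝒞 := 𝒞)
    (j := j) ⊥ ⟨proj 𝒞 j z, proj_mem 𝒞 j z⟩ (fun h => hj (congrArg Subtype.val ((Submodule.mem_bot _).1 h)))
  refine hhne ?_
  show h (proj 𝒞 j z) = 0
  obtain ⟨u, hu⟩ := hsur (φ h)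
  have h1 : h = x • φ.symm u := φ.injective (by rw [map_smul, φ.apply_symm_apply, hu])
  have h2 : h z = 0 := by
    rw [h1, LinearMap.smul_apply, ← map_smul, hz, map_zero]
  have h3 := proj_map 𝒞 𝓔 hh z j
  rw [h2, map_zero] at h3
  exact h3.symm

include hpos h0 hmsp he φ in
/-- Divisibility of the kernel of `x` gives torsion-freeness modulo `x`. -/
theorem mem_smul_of_smul_mem {x y : R} {p : ℤ} (hx : x ∈ 𝒜 p)
    (hker : ∀ w : H, x • w = 0 → ∃ u, x • u = 0 ∧ y • u = w) {j : ℤ} {z : C} (hz : z ∈ 𝒞 j)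
    (hyz : ∃ v, y • z = x • v) : ∃ v ∈ 𝒞 (j - p), x • v = z := by
  classical
  let mul : GrLC.comp 𝒜 𝒞 (j - p) →ₗ[GrLC.deg0 𝒜] GrLC.comp 𝒜 𝒞 j :=
    { toFun := fun v => ⟨x • (v : C), by
        have := smul_mem 𝒜 𝒞 hx v.2
        rwa [add_sub_cancel] at this⟩
      map_add' := fun v w => Subtype.ext (smul_add x (v : C) (w : C))
      map_smul' := fun c v => Subtype.ext (smul_comm x (c : R) (v : C)) }
  by_contra hne
  obtain ⟨h, hh, hhne, hW⟩ := exists_functional hpos h0 hmsp he (C := C) (𝒞 := 𝒞)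
    (LinearMap.range mul) ⟨z, hz⟩ (by
      rintro ⟨v, hv⟩
      exact hne ⟨v, v.2, congrArg Subtype.val hv⟩)
  refine hhne ?_
  have hxh : x • h = 0 := by
    have hd : GrLC.IsGrHomDeg 𝒞 𝓔 (x • h) (p + -j) := fun b w hw => by
      rw [LinearMap.smul_apply, ← map_smul]
      have := hh (p + b) _ (smul_mem 𝒜 𝒞 hx hw)
      rwa [show p + b + -j = b + (p + -j) by ring] at this
    refine eq_zero_of_piece hpos hmsp he hd fun w hw => ?_
    rw [LinearMap.smul_apply, ← map_smul]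
    rw [show -(p + -j) = j - p by ring] at hw
    exact hW (mul ⟨w, hw⟩) ⟨_, rfl⟩
  obtain ⟨u, hu, huw⟩ := hker (φ h) (by rw [← map_smul, hxh, map_zero])
  obtain ⟨v, hv⟩ := hyz
  have h1 : h = y • φ.symm u := φ.injective (by rw [map_smul, φ.apply_symm_apply, huw])
  have h2 : x • φ.symm u = 0 := φ.injective (by rw [map_smul, φ.apply_symm_apply, hu, map_zero])
  show h z = 0
  rw [h1, LinearMap.smul_apply, ← map_smul, hv, map_smul, ← LinearMap.smul_apply, h2,
    LinearMap.zero_apply]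

end Pieces

end Groth.Agent.GrFieldLib.Dual
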